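import Groth.Agent.BrownFinLib.DQPerf

/-!
# Bondal–Van den Bergh: the representing object has finite dimensional Hom's out of perfect objects
-/

set_option autoImplicit false
set_option linter.style.haveILetI false
set_option backward.isDefEq.respectTransparency false
set_option backward.isDefEq.respectTransparency.types false
set_option maxHeartbeats 1000000

universe u

open CategoryTheory CategoryTheory.Limits AlgebraicGeometry CategoryTheory.Pretriangulated
open Opposite (op unop)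

attribute [local instance] HasDerivedCategory.standard

namespace BrownFinLib.DQ

/-- `Hom(E, K⟦i⟧) ≅ Hom(E⟦-i⟧, K)`. -/
noncomputable def homShiftLinear {k : Type*} [Ring k] {C : Type*} [Category C] [Preadditive C]
    [Linear k C] [HasShift C ℤ] [∀ n : ℤ, (shiftFunctor C n).Additive]
    [∀ n : ℤ, (shiftFunctor C n).Linear k] (E K : C) (i : ℤ) :
    (E ⟶ K⟦i⟧) ≃ₗ[k] (E⟦-i⟧ ⟶ K) :=
  (LinearEquiv.ofBijective ((shiftFunctor C (-i)).mapLinearMap k (X := E) (Y := K⟦i⟧))
      ⟨(shiftFunctor C (-i)).map_injective, (shiftFunctor C (-i)).map_surjective⟩).trans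
    (Linear.homCongr k (Iso.refl _) (shiftShiftNeg K i))

variable {X : Scheme.{u}} [CompactSpace X] [QuasiSeparatedSpace X] {k : Type u} [Field k]
  [X.Over (Spec (.of k))]

/-- Representability, together with the finiteness of the representing object. -/
theorem exists_rep_findim [(SGA6.perfP X).IsTriangulated]
    (H : ((SGA6.perfP X).FullSubcategory)ᵒᵖ ⥤ ModuleCat.{u + 1} k) [H.Additive]
    (hlin : ∀ (A B : (SGA6.perfP X).FullSubcategory) (r : k) (f : A ⟶ B), H.map (r • f).op = r • H.map f.op)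
    (hcoh : ∀ T ∈ distTriang (DCoh.D X), ∀ (h₁ : DCoh.IsPerfect T.obj₁)
      (h₂ : DCoh.IsPerfect T.obj₂) (h₃ : DCoh.IsPerfect T.obj₃)
      (y : H.obj (op ⟨T.obj₂, h₂⟩)),
      H.map (ObjectProperty.homMk T.mor₁ : (⟨T.obj₁, h₁⟩ : (SGA6.perfP X).FullSubcategory) ⟶ ⟨T.obj₂, h₂⟩).op y = 0 →
        ∃ z : H.obj (op ⟨T.obj₃, h₃⟩),
          H.map (ObjectProperty.homMk T.mor₂ : (⟨T.obj₂, h₂⟩ : (SGA6.perfP X).FullSubcategory) ⟶ ⟨T.obj₃, h₃⟩).op z = y)
    (hfin : ∀ E : (SGA6.perfP X).FullSubcategory,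
      (∀ n : ℤ, Module.Finite k (H.obj (op ((shiftFunctor ((SGA6.perfP X).FullSubcategory) n).obj E)))) ∧
      Set.Finite {n : ℤ | Nontrivial (H.obj (op ((shiftFunctor ((SGA6.perfP X).FullSubcategory) n).obj E)))}) :
    ∃ K : DCoh.D X, DCoh.IsQCohD K ∧
      (∀ E : DCoh.D X, DCoh.IsPerfect E → (∀ i : ℤ, Module.Finite k (E ⟶ (shiftFunctor (DCoh.D X) i).obj K)) ∧
        Set.Finite {i : ℤ | Nontrivial (E ⟶ (shiftFunctor (DCoh.D X) i).obj K)}) ∧
      Nonempty (H ≅ (ObjectProperty.ι (SGA6.perfP X)).op ⋙ (linearYoneda k (DCoh.D X)).obj K) := by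
  have hfin0 : ∀ Z, Module.Finite k (H.obj Z) := fun Z => by
    haveI := (hfin Z.unop).1 0
    exact Module.Finite.equiv
      (H.mapIso ((shiftFunctorZero ((SGA6.perfP X).FullSubcategory) ℤ).app Z.unop).symm.op).toLinearEquiv
  obtain ⟨K, hK, ⟨e⟩⟩ := exists_rep_perfect H hlin hcoh hfin0
  refine ⟨K, hK, fun E hE => ?_, ⟨e⟩⟩
  let E' : (SGA6.perfP X).FullSubcategory := ⟨E, hE⟩
  let θ : ∀ i : ℤ, H.obj (op (E'⟦-i⟧)) ≃ₗ[k] (E ⟶ K⟦i⟧) := fun i =>
    ((e.app (op (E'⟦-i⟧))).toLinearEquiv.trans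
      (Linear.homCongr k (((ObjectProperty.ι (SGA6.perfP X)).commShiftIso (-i)).app E') (Iso.refl K))).trans
      (homShiftLinear E K i).symm
  refine ⟨fun i => ?_, ?_⟩
  · haveI := (hfin E').1 (-i)
    exact Module.Finite.equiv (θ i)
  · refine ((hfin E').2.preimage (f := fun i : ℤ => -i) neg_injective.injOn).subset fun i hi => ?_
    haveI : Nontrivial (E ⟶ K⟦i⟧) := hi
    exact (θ i).toEquiv.nontrivial

end BrownFinLib.DQ
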