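import Groth.Agent.BrownFinLib.DualFun
import Groth.Agent.BrownFinLib.DQBound
import Groth.Agent.S6744
import Groth.Agent.VBResLib.RegPerfect

/-!
# Corepresentability of homological functors on perfect objects
-/

set_option autoImplicit false
set_option linter.style.haveILetI false
set_option backward.isDefEq.respectTransparency false
set_option backward.isDefEq.respectTransparency.types false
set_option maxHeartbeats 1000000
set_option synthInstance.maxHeartbeats 200000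

universe u

open CategoryTheory CategoryTheory.Limits CategoryTheory.Pretriangulated AlgebraicGeometry
open Opposite (op unop)

attribute [local instance] HasDerivedCategory.standard

noncomputable section

namespace BrownFinLib.Dual

variable {X : Scheme.{u}}

/-- The perfect objects. -/
abbrev Pf (X : Scheme.{u}) := (SGA6.perfP X).FullSubcategory

/-- The dual, on perfect objects. -/
def δP (X : Scheme.{u}) : (Pf X)ᵒᵖ ⥤ Pf X :=
  (SGA6.perfP X).lift ((SGA6.perfP X).ι.op ⋙ δ X) fun A => isPerfect_δ A.unop.property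

/-- Biduality, on perfect objects. -/
def ηP (X : Scheme.{u}) : 𝟭 (Pf X) ≅ (δP X).rightOp ⋙ δP X :=
  NatIso.ofComponents (fun A =>
    haveI := isIso_η (X := X) A.property
    (SGA6.perfP X).fullyFaithfulι.preimageIso (asIso ((η X).app A.obj)))
    fun {A B} f => ObjectProperty.hom_ext _ ((η X).naturality f.hom)

/-- The anti-equivalence of perfect objects. -/
def δEquiv (X : Scheme.{u}) : Pf X ≌ (Pf X)ᵒᵖ :=
  CategoryTheory.Equivalence.mk (δP X).rightOp (δP X) (ηP X)
    (NatIso.ofComponents (fun A => ((ηP X).app A.unop).op)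
      fun {A B} f => Quiver.Hom.unop_inj ((ηP X).hom.naturality f.unop).symm)

instance isEquivalence_δP : (δP X).IsEquivalence := inferInstanceAs (δEquiv X).inverse.IsEquivalence

theorem δ_map_zero {A : Type u} [CommRing A] [X.Over (Spec (CommRingCat.of A))] (P Q : DCoh.D X) :
    (δ X).map (0 : P ⟶ Q).op = 0 := by
  have h := δ_map_smul (0 : A) (0 : P ⟶ Q)
  rw [zero_smul, zero_smul] at h
  exact h

theorem nonempty_δ_shift_one (A : DCoh.D X) :
    Nonempty ((δ X).obj (op (A⟦(1 : ℤ)⟧)) ≅ ((δ X).obj (op A))⟦(-1 : ℤ)⟧) := by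
  obtain ⟨Z, hZ⟩ : ∃ Z : DCoh.D X, IsZero Z := HasZeroObject.zero
  let T : Triangle (DCoh.D X) := Triangle.mk (0 : A ⟶ Z) (0 : Z ⟶ A⟦(1 : ℤ)⟧) (-𝟙 _)
  have hT : T ∈ distTriang (DCoh.D X) := by
    refine isomorphic_distinguished _ (rot_of_distTriang _ (contractible_distinguished A)) _ ?_
    refine Triangle.isoMk _ _ (Iso.refl _) (hZ.iso (isZero_zero _)) (Iso.refl _) ?_ ?_ ?_
    · exact (isZero_zero (DCoh.D X)).eq_of_tgt _ _
    · exact hZ.eq_of_src _ _
    · simp [T, contractibleTriangle]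
      exact ((shiftFunctor (DCoh.D X) (1 : ℤ)).map_id A).symm
  obtain ⟨h, hh⟩ := exists_triangle_dual T hT
  have h0 : IsZero ((δ X).obj (op Z)) := by
    letI : X.Over (Spec (CommRingCat.of (ULift.{u} ℤ))) := ⟨specULiftZIsTerminal.from X⟩
    rw [IsZero.iff_id_eq_zero]
    have h2 := δ_map_zero (A := ULift.{u} ℤ) Z Z
    rw [show (0 : Z ⟶ Z) = 𝟙 Z from hZ.eq_of_src _ _, op_id, CategoryTheory.Functor.map_id] at h2
    exact h2
  haveI : IsIso h := (Triangle.isZero₂_iff_isIso₃ _ hh).1 h0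
  exact ⟨(shiftShiftNeg _ (1 : ℤ)).symm ≪≫ (shiftFunctor _ (-1 : ℤ)).mapIso (asIso h).symm⟩

theorem nonempty_δ_shift (A : DCoh.D X) (n : ℤ) :
    Nonempty ((δ X).obj (op (A⟦n⟧)) ≅ ((δ X).obj (op A))⟦-n⟧) := by
  induction n using Int.induction_on with
  | zero =>
    exact ⟨(δ X).mapIso ((shiftFunctorZero (DCoh.D X) ℤ).app A).symm.op.symm.symm ≪≫
      ((shiftFunctorZero' (DCoh.D X) (-(0 : ℤ)) (by simp)).app _).symm⟩
  | succ n ih =>
    obtain ⟨e⟩ := ih
    obtain ⟨s⟩ := nonempty_δ_shift_one (A⟦(n : ℤ)⟧)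
    exact ⟨(δ X).mapIso ((shiftFunctorAdd' (DCoh.D X) (n : ℤ) 1 _ rfl).app A).symm.op ≪≫ s ≪≫
      (shiftFunctor _ (-1 : ℤ)).mapIso e ≪≫
      ((shiftFunctorAdd' (DCoh.D X) (-(n : ℤ)) (-1) (-((n : ℤ) + 1)) (by omega)).app _).symm⟩
  | pred n ih =>
    obtain ⟨e⟩ := ih
    obtain ⟨s⟩ := nonempty_δ_shift_one (A⟦-(n : ℤ) - 1⟧)
    exact ⟨(shiftNegShift _ (1 : ℤ)).symm ≪≫ (shiftFunctor _ (1 : ℤ)).mapIso
      (s.symm ≪≫ (δ X).mapIso ((shiftFunctorAdd' (DCoh.D X) (-(n : ℤ) - 1) 1 (-(n : ℤ)) (by omega)).app A).op ≪≫ e) ≪≫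
      ((shiftFunctorAdd' (DCoh.D X) (-(-(n : ℤ))) 1 (-(-(n : ℤ) - 1)) (by omega)).app _).symm⟩

variable [(SGA6.perfP X).IsTriangulated]

theorem nonempty_δP_shift (A : Pf X) (n : ℤ) :
    Nonempty ((δP X).obj (op (A⟦n⟧)) ≅ ((δP X).obj (op A))⟦-n⟧) := by
  obtain ⟨e⟩ := nonempty_δ_shift A.obj n
  exact ⟨(SGA6.perfP X).fullyFaithfulι.preimageIso
    ((δ X).mapIso (((SGA6.perfP X).ι.commShiftIso n).app A).op.symm ≪≫ e ≪≫
      (((SGA6.perfP X).ι.commShiftIso (-n)).app ((δP X).obj (op A))).symm)⟩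

/-- Corepresentability. -/
theorem exists_corep (k : Type u) [Field k] [X.Over (Spec (.of k))] [IsProper (X ↘ Spec (.of k))]
    (hreg : Models.IsRegularScheme X)
    (G : Pf X ⥤ ModuleCat.{u + 1} k) [G.Additive] [G.Linear k] [G.IsHomological]
    (hfin : ∀ E : Pf X, (∀ n : ℤ, Module.Finite k (G.obj ((shiftFunctor (Pf X) n).obj E))) ∧
      Set.Finite {n : ℤ | Nontrivial (G.obj ((shiftFunctor (Pf X) n).obj E))}) :
    ∃ K : Pf X, Nonempty (G ≅ (linearCoyoneda k (Pf X)).obj (op K)) := by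
  haveI : IsLocallyNoetherian X := LocallyOfFiniteType.isLocallyNoetherian (X ↘ Spec (.of k))
  haveI : CompactSpace ↥X := QuasiCompact.compactSpace_of_compactSpace (X ↘ Spec (.of k))
  haveI : IsNoetherian X := {}
  haveI : (δP X).Additive := by
    haveI : HasBinaryProducts (Pf X)ᵒᵖ := inferInstance
    exact Functor.additive_of_preserves_binary_products _
  let H : (Pf X)ᵒᵖ ⥤ ModuleCat.{u + 1} k := δP X ⋙ G
  haveI : H.Additive := inferInstanceAs (δP X ⋙ G).Additive
  have hsmul : ∀ (A B : Pf X) (r : k) (f : A ⟶ B), (δP X).map (r • f).op = r • (δP X).map f.op :=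
    fun A B r f => ObjectProperty.hom_ext _ (δ_map_smul r f.hom)
  have hθ : ∀ (A : Pf X) (n : ℤ), Nonempty (H.obj (op (A⟦n⟧)) ≅ G.obj (((δP X).obj (op A))⟦-n⟧)) :=
    fun A n => by
      obtain ⟨e⟩ := nonempty_δP_shift A n
      exact ⟨G.mapIso e⟩
  have hH : ∀ E : Pf X, (∀ n : ℤ, Module.Finite k (H.obj (op (E⟦n⟧)))) ∧
      Set.Finite {n : ℤ | Nontrivial (H.obj (op (E⟦n⟧)))} := fun E => by
    refine ⟨fun n => ?_, ?_⟩
    · obtain ⟨e⟩ := hθ E n
      haveI := (hfin ((δP X).obj (op E))).1 (-n)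
      exact Module.Finite.equiv e.symm.toLinearEquiv
    · refine ((hfin ((δP X).obj (op E))).2.preimage (f := fun i : ℤ => -i) neg_injective.injOn).subset
        fun n hn => ?_
      obtain ⟨e⟩ := hθ E n
      haveI : Nontrivial (H.obj (op (E⟦n⟧))) := hn
      exact e.toLinearEquiv.symm.toEquiv.nontrivial
  obtain ⟨K, hK, hHom, ⟨e⟩⟩ := BrownFinLib.DQ.exists_rep_findim H
    (fun A B r f => (congrArg G.map (hsmul A B r f)).trans (G.map_smul _ _))
    (fun T hT h₁ h₂ h₃ y hy => by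
      obtain ⟨h, hh⟩ := exists_triangle_dual T hT
      let A₁ : Pf X := ⟨T.obj₁, h₁⟩
      let A₂ : Pf X := ⟨T.obj₂, h₂⟩
      let A₃ : Pf X := ⟨T.obj₃, h₃⟩
      let a : A₁ ⟶ A₂ := ObjectProperty.homMk T.mor₁
      let b : A₂ ⟶ A₃ := ObjectProperty.homMk T.mor₂
      let c : (δP X).obj (op A₁) ⟶ ((δP X).obj (op A₃))⟦(1 : ℤ)⟧ := ObjectProperty.homMk
        (h ≫ ((SGA6.perfP X).ι.commShiftIso (1 : ℤ)).inv.app ((δP X).obj (op A₃)))
      let T' : Triangle (Pf X) := Triangle.mk ((δP X).map b.op) ((δP X).map a.op) c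
      have hT' : T' ∈ distTriang (Pf X) := by
        refine isomorphic_distinguished _ hh _ (Triangle.isoMk _ _ (Iso.refl _) (Iso.refl _) (Iso.refl _) ?_ ?_ ?_)
        · exact (Category.comp_id _).trans (Category.id_comp _).symm
        · exact (Category.comp_id _).trans (Category.id_comp _).symm
        · refine (congrArg (_ ≫ ·) ((shiftFunctor (DCoh.D X) (1 : ℤ)).map_id _)).trans ?_
          refine (Category.comp_id _).trans (Eq.trans ?_ (Category.id_comp _).symm)
          change (h ≫ ((SGA6.perfP X).ι.commShiftIso (1 : ℤ)).inv.app ((δP X).obj (op A₃))) ≫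
            ((SGA6.perfP X).ι.commShiftIso (1 : ℤ)).hom.app ((δP X).obj (op A₃)) = h
          exact (Category.assoc _ _ _).trans ((congrArg (h ≫ ·) (Iso.inv_hom_id_app ((SGA6.perfP X).ι.commShiftIso (1 : ℤ)) ((δP X).obj (op A₃)))).trans (Category.comp_id _))
      exact (ShortComplex.moduleCat_exact_iff _).1 (G.map_distinguished_exact T' hT') y hy) hH
  obtain ⟨hc, a, b, ha, hb⟩ := (Groth.Agent.S6744.result k X hreg K hK).2 hHom
  haveI := ha
  haveI := hb
  have hKp : DCoh.IsPerfect K := VBResLib.isPerfect_of_regular hreg (b - a).toNat a K ha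
    (DerivedCategory.TStructure.t.isLE_of_le K b (a + (b - a).toNat) (by omega)) hc
  let K' : Pf X := ⟨K, hKp⟩
  let ψ : ∀ A : Pf X, ((δP X).obj (op K') ⟶ A) →ₗ[k] (((δP X).obj (op A)).obj ⟶ K) := fun A =>
    { toFun := fun f => ((δP X).map f.op ≫ (ηP X).inv.app K').hom
      map_add' := fun f g => by rw [op_add, Functor.map_add, Preadditive.add_comp]; rfl
      map_smul' := fun r f => by rw [hsmul, Linear.smul_comp, RingHom.id_apply]; rfl }
  have hψ : ∀ A, Function.Bijective (ψ A) := fun A => by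
    refine ⟨fun f g hfg => Quiver.Hom.op_inj ((δP X).map_injective
      ((cancel_mono ((ηP X).inv.app K')).1 (ObjectProperty.hom_ext _ hfg))), fun g => ?_⟩
    obtain ⟨f, hf⟩ := (δP X).map_surjective
      ((ObjectProperty.homMk g : (δP X).obj (op A) ⟶ K') ≫ (ηP X).hom.app K')
    exact ⟨f.unop, by
      change ((δP X).map f ≫ (ηP X).inv.app K').hom = g
      rw [hf, Category.assoc, Iso.hom_inv_id_app]
      exact congrArg InducedCategory.Hom.hom (Category.comp_id _)⟩
  refine ⟨(δP X).obj (op K'), ⟨(Functor.leftUnitor G).symm ≪≫ Functor.isoWhiskerRight (ηP X) G ≪≫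
    Functor.associator _ _ _ ≪≫ Functor.isoWhiskerLeft (δP X).rightOp e ≪≫ ?_⟩⟩
  refine (NatIso.ofComponents (fun A => (LinearEquiv.ofBijective (ψ A) (hψ A)).toModuleIso) fun {A B} f => ?_).symm
  refine ModuleCat.hom_ext (LinearMap.ext fun g => ?_)
  change ((δP X).map (g ≫ f).op ≫ (ηP X).inv.app K').hom =
    ((δP X).map f.op).hom ≫ ((δP X).map g.op ≫ (ηP X).inv.app K').hom
  rw [op_comp, Functor.map_comp, Category.assoc]
  rfl

end BrownFinLib.Dual
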