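import Mathlib

/-!
# Essential smallness of triangulated envelopes in locally small categories
-/

set_option autoImplicit false
set_option linter.style.haveILetI false

universe s v u

open CategoryTheory CategoryTheory.Limits CategoryTheory.Pretriangulated

namespace BrownFinLib.LS

variable {D : Type u} [Category.{v} D] [Preadditive D] [HasZeroObject D] [HasShift D ℤ]
  [∀ n : ℤ, (shiftFunctor D n).Additive] [Pretriangulated D] [LocallySmall.{s} D]
  (P Q : ObjectProperty D)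

theorem essentiallySmall_shiftClosure [ObjectProperty.EssentiallySmall.{s} P] :
    ObjectProperty.EssentiallySmall.{s} (P.shiftClosure ℤ) := by
  obtain ⟨P₀, _, hP⟩ := ObjectProperty.EssentiallySmall.exists_small_le'.{s} P
  refine ⟨ObjectProperty.ofObj (fun p : Subtype P₀ × ℤ => (shiftFunctor D p.2).obj p.1.1), inferInstance, ?_⟩
  rintro X ⟨Y, n, e, hY⟩
  obtain ⟨Y₀, hY₀, ⟨e'⟩⟩ := hP _ hY
  exact ⟨_, ObjectProperty.ofObj_apply _ (⟨Y₀, hY₀⟩, n), ⟨e ≪≫ (shiftFunctor D n).mapIso e'⟩⟩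

theorem essentiallySmall_extensionProduct [ObjectProperty.EssentiallySmall.{s} P]
    [ObjectProperty.EssentiallySmall.{s} Q] :
    ObjectProperty.EssentiallySmall.{s} (P.extensionProduct Q) := by
  obtain ⟨P₀, _, hP⟩ := ObjectProperty.EssentiallySmall.exists_small_le'.{s} P
  obtain ⟨Q₀, _, hQ⟩ := ObjectProperty.EssentiallySmall.exists_small_le'.{s} Q
  choose W f g hW using fun m : Σ p : Subtype P₀ × Subtype Q₀, (p.2.1 ⟶ (shiftFunctor D (1 : ℤ)).obj p.1.1) =>
    distinguished_cocone_triangle₂ m.2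
  refine ⟨ObjectProperty.ofObj W, inferInstance, ?_⟩
  rintro X ⟨Y, Z, a, b, h, hT, hY, hZ⟩
  obtain ⟨Y₀, hY₀, ⟨eY⟩⟩ := hP _ hY
  obtain ⟨Z₀, hZ₀, ⟨eZ⟩⟩ := hQ _ hZ
  let m : Σ p : Subtype P₀ × Subtype Q₀, (p.2.1 ⟶ (shiftFunctor D (1 : ℤ)).obj p.1.1) :=
    ⟨(⟨Y₀, hY₀⟩, ⟨Z₀, hZ₀⟩), eZ.inv ≫ h ≫ eY.hom⟦1⟧'⟩
  refine ⟨W m, ObjectProperty.ofObj_apply _ m, ?_⟩
  obtain ⟨c, h1, h2⟩ := complete_distinguished_triangle_morphism₂ _ _ hT (hW m) eY.hom eZ.hom
    (by change h ≫ eY.hom⟦1⟧' = eZ.hom ≫ m.2; exact (eZ.hom_inv_id_assoc _).symm)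
  let φ : Triangle.mk a b h ⟶ Triangle.mk (f m) (g m) m.2 :=
    { hom₁ := eY.hom, hom₂ := c, hom₃ := eZ.hom, comm₁ := h1, comm₂ := h2, comm₃ := by change h ≫ eY.hom⟦1⟧' = eZ.hom ≫ m.2; exact (eZ.hom_inv_id_assoc _).symm }
  exact ⟨@asIso _ _ _ _ c (isIso₂_of_isIso₁₃ φ hT (hW m) (inferInstanceAs (IsIso eY.hom))
    (inferInstanceAs (IsIso eZ.hom)))⟩

theorem essentiallySmall_triangEnvelope [IsTriangulated D] [ObjectProperty.EssentiallySmall.{s} P] :
    ObjectProperty.EssentiallySmall.{s} P.triangEnvelope := by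
  haveI := essentiallySmall_shiftClosure P
  have h : ∀ n, ObjectProperty.EssentiallySmall.{s} (P.triangEnvelopeIter n) := by
    intro n
    induction n with
    | zero => rw [ObjectProperty.triangEnvelopeIter_zero]; infer_instance
    | succ n ih =>
      rw [ObjectProperty.triangEnvelopeIter_succ]
      haveI := essentiallySmall_extensionProduct (P.shiftClosure ℤ).binaryProductsClosure.retractClosure
        (P.triangEnvelopeIter n)
      infer_instance
  unfold ObjectProperty.triangEnvelope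
  infer_instance

end BrownFinLib.LS
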