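import Groth.Agent.BrownFinLib.LS
import Groth.Agent.BrownFinLib.SmallLS
import Groth.Agent.KoszOrthLib.DQCoh
import Groth.Prelude.Def_KLin
import Groth.Prelude.Def_SGA6

/-!
# Representability of functors with finite dimensional values on perfect objects
-/

set_option autoImplicit false
set_option linter.style.haveILetI false
set_option backward.isDefEq.respectTransparency false
set_option backward.isDefEq.respectTransparency.types false
set_option maxHeartbeats 1000000
set_option synthInstance.maxHeartbeats 200000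

universe u

open CategoryTheory CategoryTheory.Limits AlgebraicGeometry CategoryTheory.Pretriangulated
open Opposite (op unop)
open PerfCompLib (FinFac cut proj)
open Groth.Agent Groth.Agent.KoszOrthLib

attribute [local instance] HasDerivedCategory.standard

namespace BrownFinLib.DQ

variable {X : Scheme.{u}}

/-- Perfect objects of `DQCoh X`. -/
abbrev CpP (X : Scheme.{u}) : ObjectProperty (DCoh.DQCoh X) := fun W => DCoh.IsPerfect W.obj

/-- A perfect object, in `DQCoh X`. -/
abbrev qObj [CompactSpace X] [QuasiSeparatedSpace X] (E : (SGA6.perfP X).FullSubcategory) :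
    LS.Dc (CpP X) := ⟨⟨E.obj, isQCohD_of_isPerfect E.property⟩, E.property⟩

theorem hasBinaryBiproducts : HasBinaryBiproducts (DCoh.DQCoh X) := inferInstance

variable [CompactSpace X] [QuasiSeparatedSpace X]

theorem finFac_DQ {Z : DCoh.DQCoh X} (hZ : DCoh.IsPerfect Z.obj) {I : Type u} (M : I → DCoh.DQCoh X) :
    FinFac M Z := by
  classical
  intro f
  let ι := (DCoh.IsQCohD (X := X)).ι
  let c := PreservesCoproduct.iso ι M
  let N := fun k : I => ι.obj (M k)
  obtain ⟨S, hS⟩ := finFac_of_isQCohD hZ N (fun k => (M k).property) (ι.map f ≫ c.hom)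
  refine ⟨S, ι.map_injective ?_⟩
  have hcut : ι.map (cut M S) ≫ c.hom = c.hom ≫ cut N S := by
    rw [← cancel_epi c.inv, Iso.inv_hom_id_assoc, PreservesCoproduct.inv_hom]
    refine Limits.Sigma.hom_ext _ _ fun k => ?_
    rw [ι_comp_sigmaComparison_assoc, PerfCompLib.ι_cut, ← ι.map_comp_assoc, PerfCompLib.ι_cut]
    split_ifs
    · rw [← Iso.eq_comp_inv, PreservesCoproduct.inv_hom]
      exact (ι_comp_sigmaComparison ι M k).symm
    · rw [ι.map_zero, zero_comp]
  rw [ι.map_comp, ← cancel_mono c.hom, Category.assoc, hcut, ← Category.assoc]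
  exact hS

theorem cptClass : LS.CptClass.{u + 1, u} (CpP X) where
  zero Z hZ := PerfLib.isPerfect_of_isZero ((DCoh.IsQCohD (X := X)).ι.map_isZero hZ)
  biprod A B hA hB := by
    let ι := (DCoh.IsQCohD (X := X)).ι
    haveI : PreservesBinaryBiproduct A B ι := preservesBinaryBiproduct_of_preservesBiproduct _ _ _
    exact PerfLib.isPerfect_of_iso (ι.mapBiprod A B).symm (isPerfect_biprod hA hB)
  fib T hT h₂ h₃ := PerfLib.isPerfect_obj₁ _ ((DCoh.IsQCohD (X := X)).ι.map_distinguished T hT) h₂ h₃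
  fac Z hZ I M := finFac_DQ hZ M

theorem essentiallySmall_perfect : ObjectProperty.EssentiallySmall.{u} (CpP X) := by
  haveI := hasCoproducts_D X
  let P : ObjectProperty (DCoh.D X) := ObjectProperty.ofObj fun _ : PUnit.{u + 1} => (genQ X).obj
  haveI := LS.essentiallySmall_triangEnvelope.{u} P
  obtain ⟨Q₀, _, hQ⟩ := ObjectProperty.EssentiallySmall.exists_small_le'.{u} P.triangEnvelope
  classical
  let F : Subtype Q₀ → DCoh.DQCoh X := fun q =>
    if h : DCoh.IsQCohD q.1 then ⟨q.1, h⟩ else genQ X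
  refine ⟨ObjectProperty.ofObj F, inferInstance, fun W hW => ?_⟩
  haveI : P.Nonempty := ⟨_, ObjectProperty.ofObj_apply (fun _ : PUnit.{u + 1} => (genQ X).obj) ⟨⟩⟩
  have hmem : P.triangEnvelope W.obj := by
    refine KoszOrthLib.prop_of_generator (P := fun L : DCoh.D X => DCoh.IsQCohD L)
      (fun J M hM => KFlatLib.isQCohD_coproduct M hM) (fun L n hL => KFlatLib.isQCohD_shift hL n)
      (fun S hS h₁ h₂ => KFlatLib.isQCohD₂ (rot_of_distTriang _ hS) h₂ (KFlatLib.isQCohD_shift h₁ 1))
      (G := (genQ X).obj) (genQ X).property (fun J M hM => finFac_of_isQCohD isPerfect_genQ M hM)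
      (fun n L _ => inferInstance) (fun L hL h => generates_genQ L hL (fun _ => Set.subset_univ _) h)
      P.triangEnvelope
      (P.le_triangEnvelope _ (ObjectProperty.ofObj_apply (fun _ : PUnit.{u + 1} => (genQ X).obj) ⟨⟩))
      W.property (fun J M hM => finFac_of_isQCohD hW M hM)
  obtain ⟨Y, hY, ⟨e⟩⟩ := hQ _ hmem
  have hq : DCoh.IsQCohD Y := KFlatLib.isQCohD_iso e W.property
  refine ⟨F ⟨Y, hY⟩, ObjectProperty.ofObj_apply F _, ?_⟩
  simp only [F, dif_pos hq]
  exact ⟨(DCoh.IsQCohD (X := X)).fullyFaithfulι.preimageIso e⟩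

/-- A contravariant linear cohomological functor on perfect objects with finite dimensional values is
represented by an object with quasi-coherent cohomology. -/
theorem exists_rep_perfect {k : Type u} [Field k] [X.Over (Spec (.of k))]
    (H : ((SGA6.perfP X).FullSubcategory)ᵒᵖ ⥤ ModuleCat.{u + 1} k) [H.Additive]
    (hlin : ∀ (A B : (SGA6.perfP X).FullSubcategory) (r : k) (f : A ⟶ B), H.map (r • f).op = r • H.map f.op)
    (hcoh : ∀ T ∈ distTriang (DCoh.D X), ∀ (h₁ : DCoh.IsPerfect T.obj₁)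
      (h₂ : DCoh.IsPerfect T.obj₂) (h₃ : DCoh.IsPerfect T.obj₃)
      (y : H.obj (op ⟨T.obj₂, h₂⟩)),
      H.map (ObjectProperty.homMk T.mor₁ : (⟨T.obj₁, h₁⟩ : (SGA6.perfP X).FullSubcategory) ⟶ ⟨T.obj₂, h₂⟩).op y = 0 →
        ∃ z : H.obj (op ⟨T.obj₃, h₃⟩),
          H.map (ObjectProperty.homMk T.mor₂ : (⟨T.obj₂, h₂⟩ : (SGA6.perfP X).FullSubcategory) ⟶ ⟨T.obj₃, h₃⟩).op z = y)
    (hfin : ∀ E, Module.Finite k (H.obj E)) :
    ∃ K : DCoh.D X, DCoh.IsQCohD K ∧
      Nonempty (H ≅ (ObjectProperty.ι (SGA6.perfP X)).op ⋙ (linearYoneda k (DCoh.D X)).obj K) := by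
  haveI := essentiallySmall_perfect (X := X)
  let G : LS.Dc (CpP X) ⥤ (SGA6.perfP X).FullSubcategory :=
    (SGA6.perfP X).lift (ObjectProperty.ι _ ⋙ ObjectProperty.ι _) fun W => W.property
  haveI : G.Additive := { map_add := rfl }
  let H' : (LS.Dc (CpP X))ᵒᵖ ⥤ ModuleCat.{u + 1} k := G.op ⋙ H
  haveI : ∀ Z, Module.Finite k (H'.obj Z) := fun Z => hfin _
  haveI : ∀ Z, Small.{u} (H'.obj Z) := fun Z => by
    obtain ⟨n, π, hπ⟩ := Module.Finite.exists_fin' k (H'.obj Z)
    exact small_of_surjective hπ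
  haveI : HasCoproducts.{u} (DCoh.DQCoh X) := fun J => hasCoproductsQ J
  obtain ⟨K, v, hv⟩ := LS.exists_rep (k := k) H' cptClass
    (fun T hT h₁ h₂ h₃ y hy => hcoh _ ((DCoh.IsQCohD (X := X)).ι.map_distinguished T hT) h₁ h₂ h₃ y hy)
    (E := fun _ : PUnit.{u + 1} => genQ X) isZero_of_forall_hom_genQ cSmall_genQ
  refine ⟨K.obj, K.property, ?_⟩
  let τ : ∀ E : (SGA6.perfP X).FullSubcategory, (E.obj ⟶ K.obj) →ₗ[k] H.obj (op E) := fun E =>
    { toFun := fun φ => v.1 (qObj E) (ObjectProperty.homMk φ)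
      map_add' := fun φ ψ => LS.fam_add H' cptClass v (qObj E) (ObjectProperty.homMk φ) (ObjectProperty.homMk ψ)
      map_smul' := fun r φ => by
        let f : qObj E ⟶ qObj E := ObjectProperty.homMk (ObjectProperty.homMk (r • 𝟙 E.obj))
        have h := LS.fam_nat H' v f (ObjectProperty.homMk φ)
        have h1 : f.hom ≫ ObjectProperty.homMk φ = (ObjectProperty.homMk (r • φ) : (qObj E).obj ⟶ K) :=
          ObjectProperty.hom_ext _ (show (r • 𝟙 E.obj) ≫ φ = r • φ by rw [Linear.smul_comp, Category.id_comp])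
        rw [h1] at h
        refine h.trans ?_
        have h2 : H'.map f.op = r • H.map (𝟙 E).op := by
          rw [← hlin]
          rfl
        rw [h2]
        simp only [op_id, CategoryTheory.Functor.map_id, RingHom.id_apply]
        rfl }
  have hbij : ∀ E, Function.Bijective (τ E) := fun E =>
    (hv (qObj E)).comp (⟨fun a b h => congrArg InducedCategory.Hom.hom h, fun g => ⟨g.hom, rfl⟩⟩ :
      Function.Bijective (fun φ : E.obj ⟶ K.obj => (ObjectProperty.homMk φ : (qObj E).obj ⟶ K)))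
  let e : (ObjectProperty.ι (SGA6.perfP X)).op ⋙ (linearYoneda k (DCoh.D X)).obj K.obj ≅ H :=
    NatIso.ofComponents (fun E => (LinearEquiv.ofBijective (τ E.unop) (hbij E.unop)).toModuleIso)
      fun {E E'} f => by
        refine ModuleCat.hom_ext (LinearMap.ext fun φ => ?_)
        exact LS.fam_nat H' v (W := qObj E'.unop) (Z := qObj E.unop)
          (ObjectProperty.homMk (ObjectProperty.homMk f.unop.hom)) (ObjectProperty.homMk φ)
  exact ⟨e.symm⟩

end BrownFinLib.DQ
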