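import Groth.Agent.Dual3Lib.SerreCx
import Groth.Agent.Dual3Lib.PushCoh
import Groth.Agent.DerBCLib.LocQ
import Groth.Prelude.Def_SGA6

/-!
# The duality functor on perfect objects
-/

set_option autoImplicit false
set_option linter.style.haveILetI false
set_option backward.isDefEq.respectTransparency false
set_option backward.isDefEq.respectTransparency.types false
set_option maxHeartbeats 1000000
set_option synthInstance.maxHeartbeats 200000

universe u

open CategoryTheory CategoryTheory.Limits CategoryTheory.Pretriangulated AlgebraicGeometry HomologicalComplex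
open Groth.Agent.DerLib Groth.Agent.PerfDualLib Groth.Agent.Dual3Lib.Serre
open Opposite (op unop)

attribute [local instance] HasDerivedCategory.standard
attribute [local instance 2000] DCoh.additive_tensorBi_obj

noncomputable section

namespace BrownFinLib.Dual

variable {X : Scheme.{u}}

/-- An injective model of the structure sheaf. -/
def Ucx (X : Scheme.{u}) : Cx X :=
  (KInjUse.exists_iso_Q_kInjective (DerivedCategory.Q.obj (unitCx X))).choose

instance isKInjective_Ucx : (Ucx X).IsKInjective :=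
  (KInjUse.exists_iso_Q_kInjective (DerivedCategory.Q.obj (unitCx X))).choose_spec.1

/-- The identification of the model. -/
def ucxIso (X : Scheme.{u}) : DerivedCategory.Q.obj (unitCx X) ≅ DerivedCategory.Q.obj (Ucx X) :=
  (KInjUse.exists_iso_Q_kInjective (DerivedCategory.Q.obj (unitCx X))).choose_spec.2.some

/-- The dual, on complexes. -/
def δ0 (X : Scheme.{u}) : (Cx X)ᵒᵖ ⥤ DCoh.D X where
  obj K := DerivedCategory.Q.obj (iG K.unop (Ucx X))
  map f := qq (gm f.unop (Ucx X))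
  map_id K := by
    have h : gm (𝟙 K.unop) (Ucx X) = 𝟙 _ := by
      refine Gen.adjunct_injective ?_
      rw [← Category.id_comp (gm (𝟙 K.unop) (Ucx X)), Gen.adjunct_comp_Gmap,
        CategoryTheory.Functor.map_id, Category.id_comp]
    exact (congrArg qq h).trans (DerivedCategory.Q.map_id _)
  map_comp f g := by
    refine Eq.trans ?_ (qq_comp _ _)
    exact congrArg qq (Gen.Gmap_comp_app g.unop f.unop (Ucx X)).symm

theorem δ0_inverts : (quasiIso X.Modules (ComplexShape.up ℤ)).op.IsInvertedBy (δ0 X) := fun K L f hf => by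
  haveI : QuasiIso f.unop := (mem_quasiIso_iff _).1 hf
  haveI := quasiIso_gm f.unop (Ucx X)
  exact inferInstanceAs (IsIso (DerivedCategory.Q.map (gm f.unop (Ucx X))))

/-- The dual. -/
def δ (X : Scheme.{u}) : (DCoh.D X)ᵒᵖ ⥤ DCoh.D X :=
  Localization.lift (δ0 X) δ0_inverts DerivedCategory.Q.op

/-- The dual of a complex. -/
def δIso (X : Scheme.{u}) : DerivedCategory.Q.op ⋙ δ X ≅ δ0 X :=
  Localization.fac (δ0 X) δ0_inverts DerivedCategory.Q.op

/-- The double dual of a complex. -/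
def δδIso (X : Scheme.{u}) :
    DerivedCategory.Q ⋙ (δ X).rightOp ⋙ δ X ≅ (δ0 X).rightOp ⋙ (δ X) :=
  NatIso.ofComponents (fun K => (δ X).mapIso ((δIso X).app (op K)).op.symm) fun {K L} f => by
    change (δ X).map ((δ X).map (DerivedCategory.Q.map f).op).op ≫ (δ X).map ((δIso X).inv.app (op L)).op =
      (δ X).map ((δIso X).inv.app (op K)).op ≫ (δ X).map ((δ0 X).map f.op).op
    rw [← Functor.map_comp, ← Functor.map_comp, ← op_comp, ← op_comp]
    exact congrArg (fun x => (δ X).map (Quiver.Hom.op x)) ((δIso X).inv.naturality f.op).symm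

/-- The double dual of a complex, on complexes. -/
def δ0δ0 (X : Scheme.{u}) : Cx X ⥤ DCoh.D X where
  obj K := DerivedCategory.Q.obj (iG (iG K (Ucx X)) (Ucx X))
  map f := qq (gm (gm f (Ucx X)) (Ucx X))
  map_id K := by
    have h : gm (𝟙 K) (Ucx X) = 𝟙 _ := by
      refine Gen.adjunct_injective ?_
      rw [← Category.id_comp (gm (𝟙 K) (Ucx X)), Gen.adjunct_comp_Gmap,
        CategoryTheory.Functor.map_id, Category.id_comp]
    change (δ0 X).map (gm (𝟙 K) (Ucx X)).op = _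
    rw [h, op_id, CategoryTheory.Functor.map_id]
    rfl
  map_comp f g := by
    change (δ0 X).map (gm (f ≫ g) (Ucx X)).op = (δ0 X).map (gm f (Ucx X)).op ≫ (δ0 X).map (gm g (Ucx X)).op
    rw [← Functor.map_comp, ← op_comp]
    exact congrArg (fun x => (δ0 X).map (Quiver.Hom.op x)) (Gen.Gmap_comp_app f g (Ucx X)).symm

/-- The double dual, computed. -/
def δ0δIso (X : Scheme.{u}) : (δ0 X).rightOp ⋙ δ X ≅ δ0δ0 X :=
  NatIso.ofComponents (fun K => (δIso X).app (op (iG K (Ucx X))))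
    fun {K L} f => (δIso X).hom.naturality (gm f (Ucx X)).op

/-- The K-flat model of the endomorphisms of the injective model. -/
abbrev Ncx (X : Scheme.{u}) : Cx X := Pr (iG (Ucx X) (Ucx X))

/-- The evaluation, on resolutions. -/
def evB (K : Cx X) : T2 (Ncx X) (Pr K) ⟶ iG (iG (Pr K) (Ucx X)) (Ucx X) :=
  Gen.eval₂ (aX X) bX (Gen.adjunct (ψr (iG (Ucx X) (Ucx X)))) (Pr K)

theorem evB_natural {K K' : Cx X} (e : K ⟶ K') :
    mm (𝟙 (Ncx X)) (Pm e) ≫ evB K' = evB K ≫ gm (gm (Pm e) (Ucx X)) (Ucx X) :=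
  Gen.eval₂_natural (aX X) bX (fun f g => bX_natural f g) _ (Pm e)

theorem quasiIso_evB {K : Cx X} (hK : DCoh.IsPerfect (DerivedCategory.Q.obj K)) : QuasiIso (evB K) :=
  quasiIso_eval₂ (kFlat_Pr _) (ψr (iG (Ucx X) (Ucx X))) (isPerfect_Pr hK)

theorem nonempty_iso_Ncx :
    Nonempty (DerivedCategory.Q.obj (Ncx X) ≅ DerivedCategory.Q.obj (unitCx X)) := by
  obtain ⟨g⟩ := nonempty_iG_congr (ucxIso X) (Ucx X)
  exact ⟨asIso (qq (ψr (iG (Ucx X) (Ucx X)))) ≪≫ g.symm ≪≫
    DerivedCategory.Q.mapIso (gUnitIso.app (Ucx X)) ≪≫ (ucxIso X).symm⟩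

/-- A zigzag from the unit to `Ncx`. -/
theorem exists_zigzag : ∃ (P : Cx X) (s : P ⟶ unitCx X) (g : P ⟶ Ncx X), QuasiIso s ∧ QuasiIso g := by
  obtain ⟨e⟩ := nonempty_iso_Ncx (X := X)
  obtain ⟨P, s, hs, g, hg⟩ := DerivedCategory.right_fac e.inv
  haveI : QuasiIso s := (DerivedCategory.isIso_Q_map_iff_quasiIso _ s).1 hs
  haveI : IsIso (DerivedCategory.Q.map g) := by
    have : DerivedCategory.Q.map g = DerivedCategory.Q.map s ≫ e.inv := by
      rw [hg, IsIso.hom_inv_id_assoc]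
    rw [this]
    infer_instance
  exact ⟨P, s, g, ‹_›, (DerivedCategory.isIso_Q_map_iff_quasiIso _ g).1 ‹_›⟩

/-- The middle object. -/
def Pz (X : Scheme.{u}) : Cx X := (exists_zigzag (X := X)).choose

/-- The map to the unit. -/
def sz (X : Scheme.{u}) : Pz X ⟶ unitCx X := (exists_zigzag (X := X)).choose_spec.choose

/-- The map to `Ncx`. -/
def gz (X : Scheme.{u}) : Pz X ⟶ Ncx X := (exists_zigzag (X := X)).choose_spec.choose_spec.choose

instance quasiIso_sz : QuasiIso (sz X) := (exists_zigzag (X := X)).choose_spec.choose_spec.choose_spec.1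

instance quasiIso_gz : QuasiIso (gz X) := (exists_zigzag (X := X)).choose_spec.choose_spec.choose_spec.2

instance isIso_mm_sz (K : Cx X) : IsIso (qq (mm (sz X) (𝟙 (Pr K)))) := by
  haveI := quasiIso_mm_left (kFlat_Pr K) (sz X)
  infer_instance

/-- The biduality map, on complexes. -/
def η0 (K : Cx X) : DerivedCategory.Q.obj K ⟶ (δ0δ0 X).obj K :=
  inv (qq (ψr K)) ≫ qq (unitL (Pr K)).inv ≫ inv (qq (mm (sz X) (𝟙 (Pr K)))) ≫
    qq (mm (gz X) (𝟙 (Pr K))) ≫ qq (evB K) ≫ qq (gm (gm (ψr K) (Ucx X)) (Ucx X))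

theorem η0_natural {K L : Cx X} (f : K ⟶ L) :
    qq f ≫ η0 L = η0 K ≫ qq (gm (gm f (Ucx X)) (Ucx X)) := by
  have h1 : qq f ≫ inv (qq (ψr L)) = inv (qq (ψr K)) ≫ qq (Pm f) := by
    rw [IsIso.comp_inv_eq, Category.assoc, ← qq_comp, ψr_natural, qq_comp, IsIso.inv_hom_id_assoc]
  have h2 : qq (Pm f) ≫ qq (unitL (Pr L)).inv = qq (unitL (Pr K)).inv ≫ qq (mm (𝟙 (unitCx X)) (Pm f)) := by
    rw [← qq_comp, ← qq_comp]
    refine congrArg qq ?_
    rw [Iso.comp_inv_eq, Category.assoc, unitL_natural, Iso.inv_hom_id_assoc]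
  have h3 : qq (mm (𝟙 (unitCx X)) (Pm f)) ≫ inv (qq (mm (sz X) (𝟙 (Pr L)))) =
      inv (qq (mm (sz X) (𝟙 (Pr K)))) ≫ qq (mm (𝟙 (Pz X)) (Pm f)) := by
    rw [IsIso.comp_inv_eq, Category.assoc, ← qq_comp, ← mm_interchange, qq_comp, IsIso.inv_hom_id_assoc]
  have h4 : qq (mm (𝟙 (Pz X)) (Pm f)) ≫ qq (mm (gz X) (𝟙 (Pr L))) =
      qq (mm (gz X) (𝟙 (Pr K))) ≫ qq (mm (𝟙 (Ncx X)) (Pm f)) := by
    rw [← qq_comp, ← qq_comp, mm_interchange]
  have h5 : qq (mm (𝟙 (Ncx X)) (Pm f)) ≫ qq (evB L) =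
      qq (evB K) ≫ qq (gm (gm (Pm f) (Ucx X)) (Ucx X)) := by
    rw [← qq_comp, ← qq_comp, evB_natural]
  have h6 : qq (gm (gm (Pm f) (Ucx X)) (Ucx X)) ≫ qq (gm (gm (ψr L) (Ucx X)) (Ucx X)) =
      qq (gm (gm (ψr K) (Ucx X)) (Ucx X)) ≫ qq (gm (gm f (Ucx X)) (Ucx X)) := by
    refine ((δ0δ0 X).map_comp (Pm f) (ψr L)).symm.trans ?_
    rw [ψr_natural]
    exact (δ0δ0 X).map_comp (ψr K) f
  simp only [η0, Category.assoc]
  rw [reassoc_of% h1, reassoc_of% h2, reassoc_of% h3, reassoc_of% h4, reassoc_of% h5, h6]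

theorem isIso_η0 {K : Cx X} (hK : DCoh.IsPerfect (DerivedCategory.Q.obj K)) : IsIso (η0 K) := by
  haveI := quasiIso_mm_left (kFlat_Pr K) (gz X)
  haveI := quasiIso_evB hK
  haveI := quasiIso_gm (ψr K) (Ucx X)
  haveI := quasiIso_gm (gm (ψr K) (Ucx X)) (Ucx X)
  unfold η0
  infer_instance

/-- The biduality map, as a transformation. -/
def ητ (X : Scheme.{u}) : DerivedCategory.Q ⟶ DerivedCategory.Q ⋙ (δ X).rightOp ⋙ δ X :=
  ({ app := fun K => η0 K, naturality := fun K L f => η0_natural f } : DerivedCategory.Q ⟶ δ0δ0 X) ≫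
    (δ0δIso X).inv ≫ (δδIso X).inv

/-- The biduality map. -/
def η (X : Scheme.{u}) : 𝟭 (DCoh.D X) ⟶ (δ X).rightOp ⋙ δ X :=
  letI : Localization.Lifting DerivedCategory.Q (quasiIso X.Modules (ComplexShape.up ℤ))
      DerivedCategory.Q (𝟭 (DCoh.D X)) := ⟨Functor.rightUnitor _⟩
  letI : Localization.Lifting DerivedCategory.Q (quasiIso X.Modules (ComplexShape.up ℤ))
      (DerivedCategory.Q ⋙ (δ X).rightOp ⋙ δ X) ((δ X).rightOp ⋙ δ X) := ⟨Iso.refl _⟩
  Localization.liftNatTrans DerivedCategory.Q (quasiIso X.Modules (ComplexShape.up ℤ))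
    DerivedCategory.Q (DerivedCategory.Q ⋙ (δ X).rightOp ⋙ δ X) _ _ (ητ X)

theorem isIso_η {A : DCoh.D X} (hA : DCoh.IsPerfect A) : IsIso ((η X).app A) := by
  let K := DerivedCategory.Q.objPreimage A
  let e := DerivedCategory.Q.objObjPreimageIso A
  haveI := isIso_η0 (X := X) (K := K) (Groth.Agent.PerfLib.isPerfect_of_iso e.symm hA)
  haveI : IsIso ((ητ X).app K) := by
    change IsIso (η0 K ≫ (δ0δIso X).inv.app K ≫ (δδIso X).inv.app K)
    infer_instance
  haveI : IsIso ((η X).app (DerivedCategory.Q.obj K)) := by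
    rw [η, Localization.liftNatTrans_app]
    infer_instance
  exact (NatTrans.isIso_app_iff_of_iso (η X) e).1 inferInstance

theorem isPerfect_δ {A : DCoh.D X} (hA : DCoh.IsPerfect A) : DCoh.IsPerfect ((δ X).obj (op A)) := by
  let K := DerivedCategory.Q.objPreimage A
  let e := DerivedCategory.Q.objObjPreimageIso A
  have hK : DCoh.IsPerfect (DerivedCategory.Q.obj K) := Groth.Agent.PerfLib.isPerfect_of_iso e.symm hA
  haveI := KFlatLib.hasLTensorCx K
  haveI := BidualSchLib.hasRSheafHom K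
  obtain ⟨f⟩ := nonempty_rSheafHom_iso K (Ucx X) (ucxIso X).symm
  exact Groth.Agent.PerfLib.isPerfect_of_iso
    (f ≪≫ ((δIso X).app (op K)).symm ≪≫ (δ X).mapIso e.op.symm) (isPerfect_dual K hK)

/-- The dual of a distinguished triangle is part of a distinguished triangle. -/
theorem exists_triangle_dual (T : Triangle (DCoh.D X)) (hT : T ∈ distTriang (DCoh.D X)) :
    ∃ h, Triangle.mk ((δ X).map T.mor₂.op) ((δ X).map T.mor₁.op) h ∈ distTriang (DCoh.D X) := by
  obtain ⟨K, L, φ, ⟨e⟩⟩ := (DerivedCategory.mem_distTriang_iff _).1 (inv_rot_of_distTriang _ hT)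
  let E : T ≅ DerivedCategory.Q.mapTriangle.obj (CochainComplex.mappingCone.triangle φ).rotate :=
    ((triangleRotation (DCoh.D X)).counitIso.app T).symm ≪≫ (rotate _).mapIso e ≪≫
      DerivedCategory.Q.mapTriangleRotateIso.app _
  let S := CochainComplex.mappingCone.triangleRotateShortComplex φ
  have hS := Gen.shortExact_G (T := Tb X)
    (CochainComplex.mappingCone.triangleRotateShortComplexSplitting φ) (S := S) (Ucx X)
  let T' := DerivedCategory.triangleOfSES hS
  let a : (δ X).obj (op T.obj₃) ≅ T'.obj₁ :=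
    (δ X).mapIso (Triangle.π₃.mapIso E).op.symm ≪≫ (δIso X).app (op S.X₃)
  let b : (δ X).obj (op T.obj₂) ≅ T'.obj₂ :=
    (δ X).mapIso (Triangle.π₂.mapIso E).op.symm ≪≫ (δIso X).app (op S.X₂)
  let c : (δ X).obj (op T.obj₁) ≅ T'.obj₃ :=
    (δ X).mapIso (Triangle.π₁.mapIso E).op.symm ≪≫ (δIso X).app (op S.X₁)
  refine ⟨c.hom ≫ T'.mor₃ ≫ a.inv⟦(1 : ℤ)⟧', isomorphic_distinguished _
    (DerivedCategory.triangleOfSES_distinguished hS) _ (Triangle.isoMk _ _ a b c ?_ ?_ ?_)⟩
  · change (δ X).map T.mor₂.op ≫ b.hom = a.hom ≫ qq (gm S.g (Ucx X))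
    have h := (δIso X).hom.naturality S.g.op
    simp only [a, b, Iso.trans_hom, Functor.mapIso_hom, Iso.app_hom, Category.assoc]
    rw [← Functor.map_comp_assoc]
    refine Eq.trans ?_ (congrArg (_ ≫ ·) h)
    rw [Functor.comp_map, ← Functor.map_comp_assoc]
    refine congrArg (fun x => (δ X).map x ≫ _) (Quiver.Hom.unop_inj ?_)
    exact (E.inv.comm₂).symm
  · change (δ X).map T.mor₁.op ≫ c.hom = b.hom ≫ qq (gm S.f (Ucx X))
    have h := (δIso X).hom.naturality S.f.op
    simp only [b, c, Iso.trans_hom, Functor.mapIso_hom, Iso.app_hom, Category.assoc]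
    rw [← Functor.map_comp_assoc]
    refine Eq.trans ?_ (congrArg (_ ≫ ·) h)
    rw [Functor.comp_map, ← Functor.map_comp_assoc]
    refine congrArg (fun x => (δ X).map x ≫ _) (Quiver.Hom.unop_inj ?_)
    exact (E.inv.comm₁).symm
  · simp [T', DerivedCategory.triangleOfSES]

section Linear

variable {A : Type u} [CommRing A] [X.Over (Spec (CommRingCat.of A))]

theorem tensorBi_obj_map_smul_id (M N : X.Modules) (a : A) :
    ((DCoh.tensorBi (X := X)).obj M).map (a • 𝟙 N) = a • 𝟙 (((DCoh.tensorBi (X := X)).obj M).obj N) := by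
  refine KFlatLib.tens_hom_ext fun U m n => ?_
  have h := KFlatLib.tensorBi_map_shApp (𝟙 M) (a • 𝟙 N) U m n
  rw [CategoryTheory.Functor.map_id, NatTrans.id_app, Category.id_comp] at h
  refine h.trans ?_
  rw [KLin.smul_app_apply]
  erw [KLin.smul_app_apply]
  exact DerBCLib.shTm_smul_right M N U _ m n

theorem tL_map_smul_id (N K : Cx X) (a : A) :
    (Gen.tL (Tb X) N).map (a • 𝟙 K) = a • 𝟙 ((Gen.tL (Tb X) N).obj K) := by
  refine HomologicalComplex.hom_ext _ _ fun n => HomologicalComplex.mapBifunctor.hom_ext fun p q h => ?_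
  change _ ≫ (HomologicalComplex.mapBifunctorMap (𝟙 N) (a • 𝟙 K) (Tb X) _).f n = _
  rw [HomologicalComplex.ι_mapBifunctorMap]
  simp [tensorBi_obj_map_smul_id, Linear.smul_comp, Linear.comp_smul]
  exact congrArg (a • ·) (Category.comp_id _).symm

theorem gm_smul_id (K : Cx X) (a : A) : gm (a • 𝟙 K) (Ucx X) = a • 𝟙 (iG K (Ucx X)) := by
  refine Gen.adjunct_injective ?_
  rw [← Category.id_comp (gm (a • 𝟙 K) (Ucx X)), Gen.adjunct_comp_Gmap, tL_map_smul_id,
    show (a • 𝟙 (iG K (Ucx X)) : iG K (Ucx X) ⟶ iG K (Ucx X)) =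
      (a • 𝟙 (iG K (Ucx X))) ≫ 𝟙 _ from (Category.comp_id _).symm,
    Gen.adjunct_comp, KiehlLib.tR_map_smul_id]
  rfl

theorem δ_map_smul {P Q : DCoh.D X} (r : A) (f : P ⟶ Q) :
    (δ X).map (r • f).op = r • (δ X).map f.op := by
  let K := DerivedCategory.Q.objPreimage P
  let e := DerivedCategory.Q.objObjPreimageIso P
  have h0 : (δ X).map (r • 𝟙 (DerivedCategory.Q.obj K)).op =
      r • 𝟙 ((δ X).obj (op (DerivedCategory.Q.obj K))) := by
    have h := (δIso X).hom.naturality (r • 𝟙 K).op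
    rw [show r • 𝟙 (DerivedCategory.Q.obj K) = DerivedCategory.Q.map (r • 𝟙 K) by
      rw [Functor.map_smul, CategoryTheory.Functor.map_id]]
    rw [← cancel_mono ((δIso X).hom.app (op K))]
    refine h.trans ?_
    change _ ≫ qq (gm (r • 𝟙 K) (Ucx X)) = _
    rw [gm_smul_id]
    simp only [qq, Functor.map_smul, CategoryTheory.Functor.map_id, Linear.comp_smul, Linear.smul_comp,
      Category.id_comp]
    exact congrArg (r • ·) (Category.comp_id _)
  have hf : r • f = e.inv ≫ (r • 𝟙 (DerivedCategory.Q.obj K)) ≫ e.hom ≫ f := by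
    simp [Linear.smul_comp, Linear.comp_smul]
    erw [Category.id_comp]
    simp [K, e]
  rw [hf, op_comp, op_comp, op_comp, Functor.map_comp, Functor.map_comp, Functor.map_comp, h0]
  simp [Linear.smul_comp, Linear.comp_smul, ← Functor.map_comp, ← op_comp_assoc]

end Linear

end BrownFinLib.Dual
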