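import Groth.Agent.S0978

/-!
# Compact objects: stability and essential smallness
-/

set_option autoImplicit false
set_option linter.style.haveILetI false
set_option linter.unusedSectionVars false

universe v u

open scoped ZeroObject
open CategoryTheory CategoryTheory.Limits CategoryTheory.Pretriangulated CompactLib Groth.Agent.DerLib

namespace BrownFinLib

variable {D : Type u} [Category.{v} D] [Preadditive D] [HasZeroObject D] [HasShift D ℤ]
  [∀ n : ℤ, (shiftFunctor D n).Additive] [Pretriangulated D] [HasCoproducts.{v} D]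

theorem isCompact_zero {Z : D} (hZ : IsZero Z) : CohDer.IsCompactObject Z :=
  compact_of_fac fun ι X f => by rw [hZ.eq_of_src f 0]; exact zero_mem _

theorem isCompact_shift {C : D} (hC : CohDer.IsCompactObject C) (n : ℤ) :
    CohDer.IsCompactObject ((shiftFunctor D n).obj C) :=
  compact_of_fac ((fac_of_compact hC).shift n)

theorem isCompact_biprod {A B : D} (hA : CohDer.IsCompactObject A) (hB : CohDer.IsCompactObject B) :
    CohDer.IsCompactObject (A ⊞ B) :=
  compact_of_fac ((fac_of_compact hA).biprod (fac_of_compact hB))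

/-- An extension of compact objects is compact. -/
theorem isCompact_obj₂ (T : Triangle D) (hT : T ∈ distTriang D) (h₁ : CohDer.IsCompactObject T.obj₁)
    (h₃ : CohDer.IsCompactObject T.obj₃) : CohDer.IsCompactObject T.obj₂ := by
  refine compact_of_fac fun ι X f => ?_
  obtain ⟨S, hS⟩ := exists_cut_eq (fac_of_compact h₁ ι X (T.mor₁ ≫ f))
  obtain ⟨g, hg⟩ := Triangle.yoneda_exact₂ T hT (f - f ≫ cut X S)
    (by rw [Preadditive.comp_sub, ← Category.assoc, hS, sub_self])
  have h : f = f ≫ cut X S + T.mor₂ ≫ g := by rw [← hg]; abel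
  rw [h]
  exact add_mem (comp_cut_mem X S f) (comp_mem_finSub _ (fac_of_compact h₃ ι X g))

/-- The fibre of a map of compact objects is compact. -/
theorem isCompact_obj₁ (T : Triangle D) (hT : T ∈ distTriang D) (h₂ : CohDer.IsCompactObject T.obj₂)
    (h₃ : CohDer.IsCompactObject T.obj₃) : CohDer.IsCompactObject T.obj₁ :=
  isCompact_obj₂ T.invRotate (inv_rot_of_distTriang _ hT) (isCompact_shift h₃ _) h₂

section Small

variable (P Q : ObjectProperty D)

theorem essentiallySmall_shiftClosure [ObjectProperty.EssentiallySmall.{v} P] :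
    ObjectProperty.EssentiallySmall.{v} (P.shiftClosure ℤ) := by
  obtain ⟨P₀, _, hP⟩ := ObjectProperty.EssentiallySmall.exists_small_le'.{v} P
  refine ⟨ObjectProperty.ofObj (fun p : Subtype P₀ × ℤ => (shiftFunctor D p.2).obj p.1.1), inferInstance, ?_⟩
  rintro X ⟨Y, n, e, hY⟩
  obtain ⟨Y₀, hY₀, ⟨e'⟩⟩ := hP _ hY
  exact ⟨_, ObjectProperty.ofObj_apply _ (⟨Y₀, hY₀⟩, n), ⟨e ≪≫ (shiftFunctor D n).mapIso e'⟩⟩

theorem essentiallySmall_extensionProduct [ObjectProperty.EssentiallySmall.{v} P]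
    [ObjectProperty.EssentiallySmall.{v} Q] :
    ObjectProperty.EssentiallySmall.{v} (P.extensionProduct Q) := by
  obtain ⟨P₀, _, hP⟩ := ObjectProperty.EssentiallySmall.exists_small_le'.{v} P
  obtain ⟨Q₀, _, hQ⟩ := ObjectProperty.EssentiallySmall.exists_small_le'.{v} Q
  choose W f g hW using fun m : Σ p : Subtype P₀ × Subtype Q₀, (p.2.1 ⟶ (shiftFunctor D (1 : ℤ)).obj p.1.1) =>
    distinguished_cocone_triangle₂ m.2
  refine ⟨ObjectProperty.ofObj W, inferInstance, ?_⟩
  rintro X ⟨Y, Z, a, b, h, hT, hY, hZ⟩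
  obtain ⟨Y₀, hY₀, ⟨eY⟩⟩ := hP _ hY
  obtain ⟨Z₀, hZ₀, ⟨eZ⟩⟩ := hQ _ hZ
  let m : Σ p : Subtype P₀ × Subtype Q₀, (p.2.1 ⟶ (shiftFunctor D (1 : ℤ)).obj p.1.1) :=
    ⟨(⟨Y₀, hY₀⟩, ⟨Z₀, hZ₀⟩), eZ.inv ≫ h ≫ eY.hom⟦1⟧'⟩
  refine ⟨W m, ObjectProperty.ofObj_apply _ m, ?_⟩
  obtain ⟨c, h1, h2⟩ := complete_distinguished_triangle_morphism₂ _ _ hT (hW m) eY.hom eZ.hom
    (by change h ≫ eY.hom⟦1⟧' = eZ.hom ≫ m.2; exact (eZ.hom_inv_id_assoc _).symm)
  let φ : Triangle.mk a b h ⟶ Triangle.mk (f m) (g m) m.2 :=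
    { hom₁ := eY.hom, hom₂ := c, hom₃ := eZ.hom, comm₁ := h1, comm₂ := h2, comm₃ := by change h ≫ eY.hom⟦1⟧' = eZ.hom ≫ m.2; exact (eZ.hom_inv_id_assoc _).symm }
  exact ⟨@asIso _ _ _ _ c (isIso₂_of_isIso₁₃ φ hT (hW m) (inferInstanceAs (IsIso eY.hom))
    (inferInstanceAs (IsIso eZ.hom)))⟩

theorem essentiallySmall_triangEnvelope [IsTriangulated D] [ObjectProperty.EssentiallySmall.{v} P] :
    ObjectProperty.EssentiallySmall.{v} P.triangEnvelope := by
  haveI := essentiallySmall_shiftClosure P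
  have h : ∀ n, ObjectProperty.EssentiallySmall.{v} (P.triangEnvelopeIter n) := by
    intro n
    induction n with
    | zero => rw [ObjectProperty.triangEnvelopeIter_zero]; infer_instance
    | succ n ih =>
      rw [ObjectProperty.triangEnvelopeIter_succ]
      haveI := essentiallySmall_extensionProduct (P.shiftClosure ℤ).binaryProductsClosure.retractClosure
        (P.triangEnvelopeIter n)
      infer_instance
  unfold ObjectProperty.triangEnvelope
  infer_instance

end Small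

/-- The compact objects of a compactly generated category form an essentially small family. -/
theorem essentiallySmall_compact [IsTriangulated D] (hD : CohDer.IsCompactlyGenerated D) :
    ObjectProperty.EssentiallySmall.{v} (fun C : D => CohDer.IsCompactObject C) := by
  haveI := Brown.hasColimitsOfShapeNat (D := D)
  obtain ⟨κ, E, hE, hgen⟩ := hD
  let Z₀ : D := 0
  let P : ObjectProperty D := ObjectProperty.ofObj E ⊔ ObjectProperty.ofObj (fun _ : PUnit.{v + 1} => Z₀)
  haveI := essentiallySmall_triangEnvelope P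
  refine ObjectProperty.EssentiallySmall.of_le (Q := P.triangEnvelope) ?_
  intro C hC
  let H : Dᵒᵖ ⥤ AddCommGrpCat.{v} := preadditiveYoneda.obj C
  have h2 : Brown.Small E := Brown.small_of_compact E hE
  let J := Σ p : κ × ℤ, (Brown.sh E p ⟶ C)
  let z : (∐ fun j : J => Brown.sh E j.1) ⟶ C := Sigma.desc fun j => j.2
  let St := Σ W : D, (H.obj (Opposite.op W) : Type v)
  have hnext : ∀ s : St, ∃ (t : St) (f : s.1 ⟶ t.1), Brown.pb H f t.2 = s.2 ∧
      (∀ (p : κ × ℤ) (g : Brown.sh E p ⟶ s.1), Brown.pb H g s.2 = 0 → g ≫ f = 0) ∧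
      ∃ (J : Type v) (c : J → κ × ℤ) (k : (∐ fun j => Brown.sh E (c j)) ⟶ s.1)
        (δ : t.1 ⟶ (∐ fun j => Brown.sh E (c j))⟦(1 : ℤ)⟧),
        Pretriangulated.Triangle.mk k f δ ∈ distTriang D := fun s => by
    obtain ⟨W, w, f, h⟩ := Brown.exists_next (E := E) (H := H) s.1 s.2
    exact ⟨⟨W, w⟩, f, h⟩
  choose nx fn hfn hkn htn using hnext
  let S : ℕ → St := fun n => Nat.rec ⟨∐ fun j : J => Brown.sh E j.1, z⟩ (fun _ s => nx s) n
  obtain ⟨W, w, q, δ, hT, hw, hbij⟩ := Brown.exists_hocolim H h2 (X := fun n => (S n).1)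
    (fun n => fn (S n)) (fun n => (S n).2) (fun n => hfn (S n)) (fun n => hkn (S n))
    (fun p e => ⟨Sigma.ι (fun j : J => Brown.sh E j.1) ⟨p, e⟩, Sigma.ι_desc _ _⟩)
  let w' : W ⟶ C := w
  have : IsIso w' := Brown.isIso_of_bijective_comp (E := E) hgen w' hbij
  obtain ⟨n, y, hy⟩ := Groth.Agent.S0978.exists_lift (fun n => fn (S n)) q δ hT hC (inv w')
  rcases isEmpty_or_nonempty κ with hκ | hκ
  · exact ObjectProperty.prop_of_iso _ ((hgen C fun i => isEmptyElim i).iso (isZero_zero D)).symm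
      (P.le_triangEnvelope _ (Or.inr (ObjectProperty.ofObj_apply (fun _ : PUnit.{v + 1} => Z₀) PUnit.unit)))
  obtain ⟨s, E'', g, h, hE'', hgh⟩ := Groth.Agent.S1076.result (ι := κ) E hE
    (fun n => (S n).1) (fun n => fn (S n))
    ⟨J, fun j => j.1.1, fun j => j.1.2, ⟨Iso.refl _⟩⟩
    (fun n => by
      obtain ⟨J', c, k, δ', h⟩ := htn (S n)
      exact ⟨J', fun j => (c j).1, fun j => (c j).2, k, δ', h⟩)
    C hC n y
  have hle : ObjectProperty.triangEnvelope (fun Y : D => ∃ i ∈ s, Y = E i) ≤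
      P.triangEnvelope :=
    ObjectProperty.monotone_triangEnvelope fun Y ⟨i, _, e⟩ => Or.inl (e ▸ ObjectProperty.ofObj_apply E i)
  refine ObjectProperty.prop_of_retract _
    ({ i := g
       r := h ≫ Sigma.ι (fun n => (S n).1) n ≫ q ≫ w'
       retract := ?_ } : Retract C E'') (hle _ hE'')
  rw [← Category.assoc g h, hgh]
  refine Eq.trans ?_ (IsIso.inv_hom_id w')
  exact ((Category.assoc y _ _).trans (congrArg (y ≫ ·) (Category.assoc _ _ _))).symm.trans
    (congrArg (· ≫ w') hy.symm)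

end BrownFinLib
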