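import Groth.Agent.BrownFinLib.Solve
import Groth.Agent.BrownFinLib.Small
import Groth.Agent.KoszOrthLib.BrownLS
import Groth.Agent.PerfCompLib.Fac

/-!
# Functors on a class of small objects with finite dimensional values are representable

The locally small variant: coproducts are indexed by a universe which may be below that of the Homs.
-/

set_option autoImplicit false
set_option linter.style.haveILetI false
set_option linter.unusedSectionVars false
set_option maxHeartbeats 1000000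
set_option backward.isDefEq.respectTransparency false
set_option backward.isDefEq.respectTransparency.types false

universe w v s

open CategoryTheory CategoryTheory.Limits CategoryTheory.Pretriangulated CompactLib
open CategoryTheory.Pretriangulated.Opposite
open scoped ZeroObject
open Opposite (op unop)

namespace BrownFinLib.LS

open PerfCompLib (FinFac cut proj)

variable {k : Type w} [Field k] {D : Type v} [Category.{v} D] [Preadditive D] [HasCoproducts.{s} D]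
  {Cp : ObjectProperty D}

/-- The small objects. -/
abbrev Dc (Cp : ObjectProperty D) := ObjectProperty.FullSubcategory Cp

/-- A class of objects which are compact and closed under the operations used below. -/
structure CptClass [HasShift D ℤ] [HasZeroObject D] [HasBinaryBiproducts D]
    [∀ n : ℤ, (shiftFunctor D n).Additive] [Pretriangulated D] (Cp : ObjectProperty D) : Prop where
  zero : ∀ Z : D, IsZero Z → Cp Z
  biprod : ∀ A B : D, Cp A → Cp B → Cp (A ⊞ B)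
  fib : ∀ T ∈ distTriang D, Cp T.obj₂ → Cp T.obj₃ → Cp T.obj₁
  fac : ∀ Z : D, Cp Z → ∀ (ι : Type s) (X : ι → D), FinFac X Z

variable (H : (Dc Cp)ᵒᵖ ⥤ ModuleCat.{v} k)

/-- Compatible families of elements on compact objects over `Y`. -/
def famSubgroup (Y : D) : AddSubgroup (∀ Z : Dc Cp, (Z.obj ⟶ Y) → H.obj (op Z)) where
  carrier := {e | ∀ ⦃W Z : Dc Cp⦄ (f : W ⟶ Z) (φ : Z.obj ⟶ Y), e W (f.hom ≫ φ) = H.map f.op (e Z φ)}
  add_mem' := fun {a b} ha hb W Z f φ => by simp only [Pi.add_apply, map_add, ha f φ, hb f φ]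
  zero_mem' := fun W Z f φ => (map_zero _).symm
  neg_mem' := fun {a} ha W Z f φ => by simp only [Pi.neg_apply, map_neg, ha f φ]

/-- Compatible families. -/
abbrev Fam (Y : D) := ↥(famSubgroup H Y)

theorem fam_nat {Y : D} (e : Fam H Y) {W Z : Dc Cp} (f : W ⟶ Z) (φ : Z.obj ⟶ Y) :
    e.1 W (f.hom ≫ φ) = H.map f.op (e.1 Z φ) := e.2 f φ

theorem map_comp_apply {U W Z : Dc Cp} (f : U ⟶ W) (g : W ⟶ Z) (x : H.obj (op Z)) :
    H.map (f ≫ g).op x = H.map f.op (H.map g.op x) := by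
  rw [op_comp, Functor.map_comp]
  rfl

theorem map_id_apply {Z : Dc Cp} (x : H.obj (op Z)) : H.map (𝟙 Z).op x = x := by
  rw [op_id, CategoryTheory.Functor.map_id]
  rfl

/-- Restriction of families. -/
def famMap {Y Y' : D} (g : Y' ⟶ Y) : Fam H Y →+ Fam H Y' where
  toFun e := ⟨fun Z φ => e.1 Z (φ ≫ g), fun W Z f φ =>
    (congrArg (e.1 W) (Category.assoc f.hom φ g)).trans (fam_nat H e f (φ ≫ g))⟩
  map_zero' := rfl
  map_add' _ _ := rfl

/-- The family of an element. -/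
def famOf {Z : Dc Cp} (x : H.obj (op Z)) : Fam H Z.obj :=
  ⟨fun W a => H.map (ObjectProperty.homMk a : W ⟶ Z).op x, fun W W' f φ => by
    rw [← map_comp_apply]
    rfl⟩

variable [H.Additive]

theorem map_add_apply {W Z : Dc Cp} (f g : W ⟶ Z) (x : H.obj (op Z)) :
    H.map (f + g).op x = H.map f.op x + H.map g.op x := by
  rw [op_add, Functor.map_add]
  rfl

theorem map_sub_apply {W Z : Dc Cp} (f g : W ⟶ Z) (x : H.obj (op Z)) :
    H.map (f - g).op x = H.map f.op x - H.map g.op x := by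
  rw [eq_sub_iff_add_eq, ← map_add_apply, sub_add_cancel]

variable [HasZeroObject D] [HasShift D ℤ] [∀ n : ℤ, (shiftFunctor D n).Additive] [Pretriangulated D]
  [HasBinaryBiproducts D] (hC : CptClass.{v, s} Cp)

include hC in
theorem fam_add {Y : D} (e : Fam H Y) (Z : Dc Cp) (φ ψ : Z.obj ⟶ Y) :
    e.1 Z (φ + ψ) = e.1 Z φ + e.1 Z ψ := by
  let B : Dc Cp := ⟨Z.obj ⊞ Z.obj, hC.biprod _ _ Z.property Z.property⟩
  let i₁ : Z ⟶ B := ObjectProperty.homMk biprod.inl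
  let i₂ : Z ⟶ B := ObjectProperty.homMk biprod.inr
  have h1 : e.1 Z φ = H.map i₁.op (e.1 B (biprod.desc φ ψ)) := by
    rw [← fam_nat H e i₁]
    exact congrArg (e.1 Z) (biprod.inl_desc φ ψ).symm
  have h2 : e.1 Z ψ = H.map i₂.op (e.1 B (biprod.desc φ ψ)) := by
    rw [← fam_nat H e i₂]
    exact congrArg (e.1 Z) (biprod.inr_desc φ ψ).symm
  rw [h1, h2, ← map_add_apply, ← fam_nat H e]
  refine congrArg (e.1 Z) ?_
  change φ + ψ = (biprod.inl + biprod.inr) ≫ biprod.desc φ ψ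
  rw [Preadditive.add_comp, biprod.inl_desc, biprod.inr_desc]

/-- A family on one compact object, as a homomorphism. -/
def famHom {Y : D} (e : Fam H Y) (Z : Dc Cp) : (Z.obj ⟶ Y) →+ H.obj (op Z) :=
  AddMonoidHom.mk' (e.1 Z) (fam_add H hC e Z)

include hC in
theorem fam_zero {Y : D} (e : Fam H Y) (Z : Dc Cp) : e.1 Z 0 = 0 := map_zero (famHom H hC e Z)

open scoped Classical in
theorem proj_ι {ι : Type s} (X : ι → D) {Z : D} (i : ι) (t : Z ⟶ X i) (j : ι) :
    (t ≫ Sigma.ι X i) ≫ proj X j = if h : i = j then t ≫ eqToHom (congrArg X h) else 0 := by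
  rw [Category.assoc, proj, Sigma.ι_desc]
  split_ifs <;> simp

include hC in
/-- Families turn coproducts into products. -/
theorem existsUnique_fam {ι : Type s} (X : ι → D) (x : ∀ i, Fam H (X i)) :
    ∃! e : Fam H (∐ X), ∀ i, famMap H (Sigma.ι X i) e = x i := by
  classical
  let E : ∀ Z : Dc Cp, (Z.obj ⟶ ∐ X) → H.obj (op Z) := fun Z φ => ∑ᶠ i, (x i).1 Z (φ ≫ proj X i)
  have hsupp : ∀ (Z : Dc Cp) (φ : Z.obj ⟶ ∐ X),
      (Function.support fun i => (x i).1 Z (φ ≫ proj X i)).Finite := fun Z φ => by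
    obtain ⟨S, hS⟩ := hC.fac _ Z.property ι X φ
    refine S.finite_toSet.subset fun i hi => ?_
    by_contra h
    refine hi ?_
    change (x i).1 Z (φ ≫ proj X i) = 0
    rw [← hS, PerfCompLib.cut_eq_sum, Preadditive.comp_sum, Preadditive.sum_comp]
    rw [Finset.sum_eq_zero fun j hj => ?_]
    · exact fam_zero H hC (x i) Z
    · rw [← Category.assoc, proj_ι, dif_neg]
      exact fun e => h (e ▸ hj)
  have hnat : ∀ ⦃W Z : Dc Cp⦄ (f : W ⟶ Z) (φ : Z.obj ⟶ ∐ X),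
      E W (f.hom ≫ φ) = H.map f.op (E Z φ) := fun W Z f φ => by
    refine Eq.trans ?_ ((H.map f.op).hom.toAddMonoidHom.map_finsum (hsupp Z φ)).symm
    refine finsum_congr fun i => ?_
    rw [Category.assoc]
    exact fam_nat H (x i) f _
  refine ⟨⟨E, hnat⟩, fun i => Subtype.ext (funext fun Z => funext fun t => ?_),
    fun e he => Subtype.ext (funext fun Z => funext fun φ => ?_)⟩
  · change E Z (t ≫ Sigma.ι X i) = (x i).1 Z t
    refine (finsum_eq_single _ i fun j hj => ?_).trans ?_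
    · rw [proj_ι, dif_neg (Ne.symm hj)]
      exact fam_zero H hC _ Z
    · rw [proj_ι, dif_pos rfl, eqToHom_refl, Category.comp_id]
  · obtain ⟨S, hS⟩ := hC.fac _ Z.property ι X φ
    change famHom H hC e Z φ = E Z φ
    refine Eq.trans ?_ (finsum_eq_sum_of_support_subset _ (s := S) fun i hi => ?_).symm
    · conv_lhs => rw [← hS, PerfCompLib.cut_eq_sum, Preadditive.comp_sum, map_sum]
      refine Finset.sum_congr rfl fun i _ => ?_
      rw [← he i, ← Category.assoc]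
      rfl
    · by_contra h
      refine hi ?_
      change (x i).1 Z (φ ≫ proj X i) = 0
      rw [← hS, PerfCompLib.cut_eq_sum, Preadditive.comp_sum, Preadditive.sum_comp]
      rw [Finset.sum_eq_zero fun j hj => ?_]
      · exact fam_zero H hC (x i) Z
      · rw [← Category.assoc, proj_ι, dif_neg]
        exact fun e => h (e ▸ hj)

variable [IsTriangulated D]

include hC in
/-- Finitely many small objects over `Y` map to a single one. -/
theorem exists_cover {Y : D} (s : Finset (Σ Z : Dc Cp, (Z.obj ⟶ Y))) :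
    ∃ (W : Dc Cp) (ψ : W.obj ⟶ Y), ∀ x ∈ s, ∃ ι : x.1 ⟶ W, ι.hom ≫ ψ = x.2 := by
  classical
  induction s using Finset.induction_on with
  | empty =>
    exact ⟨⟨_, hC.zero _ (isZero_zero D)⟩, 0, fun x hx => absurd hx (Finset.notMem_empty x)⟩
  | @insert a s _ ih =>
    obtain ⟨W, ψ, hW⟩ := ih
    refine ⟨⟨a.1.obj ⊞ W.obj, hC.biprod _ _ a.1.property W.property⟩, biprod.desc a.2 ψ,
      fun x hx => ?_⟩
    rcases Finset.mem_insert.1 hx with rfl | hx
    · exact ⟨ObjectProperty.homMk biprod.inl, biprod.inl_desc _ _⟩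
    · obtain ⟨ι, hι⟩ := hW x hx
      exact ⟨ι ≫ ObjectProperty.homMk biprod.inr,
        (Category.assoc _ _ _).trans ((congrArg (ι.hom ≫ ·) (biprod.inr_desc _ _)).trans hι)⟩

/-- A single constraint. -/
structure Cond {Y₂ Y₃ : D} (g : Y₂ ⟶ Y₃) {W : Dc Cp} (ψ : W.obj ⟶ Y₃) where
  /-- The source. -/
  P : Dc Cp
  /-- The map. -/
  p : P ⟶ W
  /-- The lift. -/
  φ : P.obj ⟶ Y₂
  comm : p.hom ≫ ψ = φ ≫ g

include hC in
theorem exists_cond {Y₂ Y₃ : D} (g : Y₂ ⟶ Y₃) {W : Dc Cp} (ψ : W.obj ⟶ Y₃) {α : Type*} (t : Finset α)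
    (c : α → Cond g ψ) :
    ∃ C : Cond g ψ, ∀ j ∈ t, ∃ r : (c j).P ⟶ C.P, r ≫ C.p = (c j).p ∧ r.hom ≫ C.φ = (c j).φ := by
  classical
  induction t using Finset.induction_on with
  | empty =>
    exact ⟨⟨⟨_, hC.zero _ (isZero_zero D)⟩, ObjectProperty.homMk 0, 0,
      show (0 : (0 : D) ⟶ W.obj) ≫ ψ = 0 ≫ g by simp⟩, fun x hx => absurd hx (Finset.notMem_empty x)⟩
  | @insert a s _ ih =>
    obtain ⟨C, hCd⟩ := ih
    refine ⟨⟨⟨(c a).P.obj ⊞ C.P.obj, hC.biprod _ _ (c a).P.property C.P.property⟩,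
      ObjectProperty.homMk (biprod.desc (c a).p.hom C.p.hom), biprod.desc (c a).φ C.φ, ?_⟩,
      fun x hx => ?_⟩
    · change biprod.desc (c a).p.hom C.p.hom ≫ ψ = biprod.desc (c a).φ C.φ ≫ g
      ext <;> simp [(c a).comm, C.comm]
    rcases Finset.mem_insert.1 hx with rfl | hx
    · exact ⟨ObjectProperty.homMk biprod.inl, ObjectProperty.hom_ext _ (biprod.inl_desc _ _),
        biprod.inl_desc _ _⟩
    · obtain ⟨r, hr, hr'⟩ := hCd x hx
      refine ⟨r ≫ ObjectProperty.homMk biprod.inr, ObjectProperty.hom_ext _ ?_,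
        (Category.assoc _ _ _).trans ((congrArg (r.hom ≫ ·) (biprod.inr_desc _ _)).trans hr')⟩
      refine (Category.assoc _ _ _).trans ((congrArg (r.hom ≫ ·) (biprod.inr_desc _ _)).trans ?_)
      exact congrArg InducedCategory.Hom.hom hr

variable (hcoh : ∀ T ∈ distTriang D, ∀ (h₁ : Cp T.obj₁)
      (h₂ : Cp T.obj₂) (h₃ : Cp T.obj₃)
      (y : H.obj (op ⟨T.obj₂, h₂⟩)),
      H.map (ObjectProperty.homMk T.mor₁ : (⟨T.obj₁, h₁⟩ : Dc Cp) ⟶ ⟨T.obj₂, h₂⟩).op y = 0 →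
        ∃ z : H.obj (op ⟨T.obj₃, h₃⟩),
          H.map (ObjectProperty.homMk T.mor₂ : (⟨T.obj₂, h₂⟩ : Dc Cp) ⟶ ⟨T.obj₃, h₃⟩).op z = y)

include hC hcoh in
theorem exists_elt {Y₁ Y₂ Y₃ : D} (f : Y₁ ⟶ Y₂) (g : Y₂ ⟶ Y₃) (δ : Y₃ ⟶ Y₁⟦(1 : ℤ)⟧)
    (hT : Triangle.mk f g δ ∈ distTriang D) (η : Fam H Y₂) (hη : famMap H f η = 0)
    {W : Dc Cp} {ψ : W.obj ⟶ Y₃} (C : Cond g ψ) :
    ∃ e : H.obj (op W), H.map C.p.op e = η.1 C.P C.φ := by
  obtain ⟨Q, q, h, hQ⟩ := distinguished_cocone_triangle₁ C.p.hom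
  have hQc : Cp Q := hC.fib _ hQ C.P.property W.property
  have h0 : (q ≫ C.φ) ≫ g = 0 := by
    rw [Category.assoc, ← C.comm, ← Category.assoc]
    exact (congrArg (· ≫ ψ) (comp_distTriang_mor_zero₁₂ _ hQ)).trans zero_comp
  obtain ⟨ψ', hψ'⟩ := Triangle.coyoneda_exact₂ _ hT _ h0
  refine hcoh _ hQ hQc C.P.property W.property _ ?_
  refine (fam_nat H η (W := ⟨Q, hQc⟩) (Z := C.P) (ObjectProperty.homMk q) C.φ).symm.trans ?_
  refine (congrArg (η.1 ⟨Q, hQc⟩) hψ').trans ?_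
  exact congrFun (congrFun (congrArg Subtype.val hη) ⟨Q, hQc⟩) ψ'

include hC hcoh in
theorem exists_fam_ext [∀ X, Module.Finite k (H.obj X)] {Y₁ Y₂ Y₃ : D} (f : Y₁ ⟶ Y₂) (g : Y₂ ⟶ Y₃)
    (δ : Y₃ ⟶ Y₁⟦(1 : ℤ)⟧) (hT : Triangle.mk f g δ ∈ distTriang D) (η : Fam H Y₂)
    (hη : famMap H f η = 0) : ∃ θ : Fam H Y₃, famMap H g θ = η := by
  classical
  let I := Σ Z : Dc Cp, (Z.obj ⟶ Y₃)
  let V : I → Type v := fun x => H.obj (op x.1)
  let sgl : ∀ x : I, Module.Dual k (V x) → (Π₀ i : I, Module.Dual k (V i)) := fun x =>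
    DFinsupp.single (β := fun i : I => Module.Dual k (V i)) x
  let J := (Σ (y : I) (Z : Dc Cp) (_ : Z ⟶ y.1), Module.Dual k (H.obj (op Z))) ⊕
    (Σ (Z : Dc Cp) (_ : Z.obj ⟶ Y₂), Module.Dual k (H.obj (op Z)))
  let a : J → Π₀ i : I, Module.Dual k (V i) := fun j => match j with
    | .inl ⟨y, Z, h, ξ⟩ => sgl y (ξ ∘ₗ (H.map h.op).hom) + sgl ⟨Z, h.hom ≫ y.2⟩ (-ξ)
    | .inr ⟨Z, φ, ξ⟩ => sgl ⟨Z, φ ≫ g⟩ ξ
  let c : J → k := fun j => match j with
    | .inl _ => 0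
    | .inr ⟨Z, φ, ξ⟩ => ξ (η.1 Z φ)
  let idx : J → Finset I := fun j => match j with
    | .inl ⟨y, Z, h, _⟩ => {y, ⟨Z, h.hom ≫ y.2⟩}
    | .inr ⟨Z, φ, _⟩ => {⟨Z, φ ≫ g⟩}
  have hp : ∀ (e : ∀ i, V i) (x : I) (ξ : Module.Dual k (V x)), pair V e (sgl x ξ) = ξ (e x) :=
    fun e x ξ => pair_single V e x ξ
  haveI : ∀ i : I, FiniteDimensional k (V i) := fun i => inferInstanceAs (Module.Finite k (H.obj (op i.1)))
  obtain ⟨e, he⟩ := exists_solution V a c fun t => by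
    obtain ⟨W, ψ, hW⟩ := exists_cover hC (t.biUnion idx)
    let ιf : ∀ x : I, x.1 ⟶ W := fun x => if hx : x ∈ t.biUnion idx then (hW x hx).choose else 0
    have hι : ∀ x ∈ t.biUnion idx, (ιf x).hom ≫ ψ = x.2 := fun x hx => by
      simp only [ιf, dif_pos hx]
      exact (hW x hx).choose_spec
    have hmem₁ : ∀ y Z h ξ, (Sum.inl ⟨y, Z, h, ξ⟩ : J) ∈ t →
        y ∈ t.biUnion idx ∧ (⟨Z, h.hom ≫ y.2⟩ : I) ∈ t.biUnion idx := fun y Z h ξ hj =>
      ⟨Finset.mem_biUnion.2 ⟨_, hj, by simp [idx]⟩, Finset.mem_biUnion.2 ⟨_, hj, by simp [idx]⟩⟩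
    have hmem₂ : ∀ Z φ ξ, (Sum.inr ⟨Z, φ, ξ⟩ : J) ∈ t → (⟨Z, φ ≫ g⟩ : I) ∈ t.biUnion idx :=
      fun Z φ ξ hj => Finset.mem_biUnion.2 ⟨_, hj, by simp [idx]⟩
    let cd : {j // j ∈ t} → Cond g ψ := fun j => match j with
        | ⟨.inl ⟨y, Z, h, ξ⟩, hj⟩ => ⟨Z, ιf ⟨Z, h.hom ≫ y.2⟩ - h ≫ ιf y, 0, by
            change ((ιf ⟨Z, h.hom ≫ y.2⟩).hom - h.hom ≫ (ιf y).hom) ≫ ψ = 0 ≫ g
            rw [Preadditive.sub_comp, hι _ (hmem₁ y Z h ξ hj).2, Category.assoc,
              hι _ (hmem₁ y Z h ξ hj).1, sub_self, zero_comp]⟩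
        | ⟨.inr ⟨Z, φ, ξ⟩, hj⟩ => ⟨Z, ιf ⟨Z, φ ≫ g⟩, φ, hι _ (hmem₂ Z φ ξ hj)⟩
    obtain ⟨C, hCd⟩ := exists_cond hC g ψ t.attach cd
    obtain ⟨eW, heW⟩ := exists_elt H hC hcoh f g δ hT η hη C
    have key : ∀ j, H.map (cd j).p.op eW = η.1 (cd j).P (cd j).φ := fun j => by
      obtain ⟨r, hr, hr'⟩ := hCd j (Finset.mem_attach _ j)
      rw [← hr, map_comp_apply, heW, ← hr', fam_nat H η]
    refine ⟨fun x => H.map (ιf x).op eW, fun j hj => ?_⟩
    have hk := key ⟨j, hj⟩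
    rcases j with ⟨y, Z, h, ξ⟩ | ⟨Z, φ, ξ⟩
    · simp only [cd] at hk
      rw [map_sub_apply, map_comp_apply, fam_zero H hC] at hk
      simp only [a, c, map_add, hp, LinearMap.comp_apply, LinearMap.neg_apply]
      rw [sub_eq_zero.1 hk]
      exact add_neg_cancel _
    · simp only [cd] at hk
      simp only [a, c, hp]
      rw [hk]
  refine ⟨⟨fun Z φ => e ⟨Z, φ⟩, fun W Z h φ => ?_⟩, Subtype.ext (funext fun Z => funext fun φ => ?_)⟩
  · refine sub_eq_zero.1 ((Module.forall_dual_apply_eq_zero_iff (R := k) _).1 fun ξ => ?_)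
    have h1 := he (Sum.inl ⟨⟨Z, φ⟩, W, h, ξ⟩)
    simp only [a, c, map_add, hp, LinearMap.comp_apply, LinearMap.neg_apply] at h1
    rw [map_sub, ← neg_sub, sub_eq_add_neg]
    exact neg_eq_zero.2 h1
  · refine sub_eq_zero.1 ((Module.forall_dual_apply_eq_zero_iff (R := k) _).1 fun ξ => ?_)
    have h1 := he (Sum.inr ⟨Z, φ, ξ⟩)
    simp only [a, c, hp] at h1
    rw [map_sub, sub_eq_zero]
    exact h1

include hC in
theorem small_fam [LocallySmall.{s} D] [ObjectProperty.EssentiallySmall.{s} Cp]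
    [∀ Z, Small.{s} (H.obj Z)] (Y : D) : Small.{s} (Fam H Y) := by
  obtain ⟨Q, _, hQ, hQ'⟩ := ObjectProperty.EssentiallySmall.exists_small_le.{s} Cp
  haveI : ∀ (q : Subtype Q) (φ : q.1 ⟶ Y), Small.{s} (H.obj (op ⟨q.1, hQ _ q.2⟩)) :=
    fun q φ => inferInstance
  refine small_of_injective
    (f := fun (e : Fam H Y) (q : Subtype Q) (φ : q.1 ⟶ Y) => e.1 ⟨q.1, hQ _ q.2⟩ φ) fun e e' h => ?_
  refine Subtype.ext (funext fun Z => funext fun φ => ?_)
  obtain ⟨Z₀, hZ₀, ⟨i⟩⟩ := hQ' _ Z.property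
  let i' : Z ⟶ (⟨Z₀, hQ _ hZ₀⟩ : Dc Cp) := ObjectProperty.homMk i.hom
  have hi : φ = i'.hom ≫ i.inv ≫ φ := (i.hom_inv_id_assoc φ).symm
  rw [hi, fam_nat H e, fam_nat H e']
  exact congrArg _ (congrFun (congrFun h ⟨Z₀, hZ₀⟩) (i.inv ≫ φ))

/-- The extension of `H` to all objects. -/
noncomputable def ext : Dᵒᵖ ⥤ AddCommGrpCat.{v} where
  obj Y := AddCommGrpCat.of (Fam H Y.unop)
  map g := AddCommGrpCat.ofHom (famMap H g.unop)
  map_id Y := ConcreteCategory.hom_ext _ _ fun x => Subtype.ext (funext fun Z => funext fun φ =>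
    congrArg (x.1 Z) (Category.comp_id φ))
  map_comp g g' := ConcreteCategory.hom_ext _ _ fun x => Subtype.ext (funext fun Z => funext fun φ =>
    congrArg (x.1 Z) (Category.assoc φ g'.unop g.unop).symm)

include hC in
theorem preservesLimitsOfShape_ext (ι : Type s) : PreservesLimitsOfShape (Discrete ι) (ext H) := by
  refine ⟨fun {K} => ?_⟩
  haveI : PreservesLimit (Discrete.functor fun j => op ((K.obj ⟨j⟩).unop)) (ext H) := by
    refine preservesLimit_of_preserves_limit_cone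
      (Cofan.IsColimit.op (coproductIsCoproduct fun j => (K.obj ⟨j⟩).unop)) ?_
    refine isLimitOfReflects (forget AddCommGrpCat.{v}) (Nonempty.some ?_)
    refine (Types.isLimit_iff _).2 fun c hc => ?_
    obtain ⟨e, he, huniq⟩ := existsUnique_fam H hC (fun j => (K.obj ⟨j⟩).unop)
      (fun j => (c ⟨j⟩ : Fam H (K.obj ⟨j⟩).unop))
    exact ⟨e, fun j => he j.as, fun y hy => huniq y fun i => hy ⟨i⟩⟩
  haveI : PreservesLimit (Discrete.functor (K.obj ∘ Discrete.mk)) (ext H) :=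
    inferInstanceAs (PreservesLimit (Discrete.functor fun j => op ((K.obj ⟨j⟩).unop)) (ext H))
  exact preservesLimit_of_iso_diagram _ (Discrete.natIsoFunctor (F := K)).symm

include hC hcoh in
theorem isHomological_ext [∀ X, Module.Finite k (H.obj X)] : (ext H).IsHomological := by
  haveI : (ext H).PreservesZeroMorphisms := ⟨fun X Y => by
    refine ConcreteCategory.hom_ext _ _ fun x => Subtype.ext (funext fun Z => funext fun φ => ?_)
    change x.1 Z (φ ≫ 0) = 0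
    rw [comp_zero, fam_zero H hC]⟩
  refine ⟨fun T hT => ?_⟩
  rw [ShortComplex.ab_exact_iff]
  intro x hx
  obtain ⟨θ, hθ⟩ := exists_fam_ext H hC hcoh _ _ _ ((mem_distTriang_op_iff T).1 hT) x hx
  exact ⟨θ, hθ⟩

include hC hcoh in
/-- Representability. -/
theorem exists_rep [LocallySmall.{s} D] [HasColimitsOfShape (Discrete ℕ) D]
    [ObjectProperty.EssentiallySmall.{s} Cp]
    [∀ Z, Small.{s} (H.obj Z)] [∀ X, Module.Finite k (H.obj X)] {κ : Type s} {E : κ → D}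
    (hgen : ∀ X : D, (∀ (i : κ) (n : ℤ) (f : E i ⟶ X⟦n⟧), f = 0) → IsZero X)
    (hE : Groth.Agent.KoszOrthLib.BrownLS.CSmall E) :
    ∃ (Y : D) (u : Fam H Y), ∀ Z : Dc Cp, Function.Bijective (u.1 Z) := by
  haveI := fun ι => preservesLimitsOfShape_ext H hC ι
  haveI := isHomological_ext H hC hcoh
  have hsmall : ∀ Y : D, Small.{s} ((ext H).obj (op Y)) := fun Y => small_fam H hC Y
  haveI := Groth.Agent.KoszOrthLib.BrownLS.isRepresentable (H := ext H) hsmall hgen hE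
  let G := ext H ⋙ forget AddCommGrpCat.{v}
  let u : Fam H G.reprX := G.reprx
  refine ⟨G.reprX, u, fun Z => ?_⟩
  have hb : Function.Bijective (fun φ : Z.obj ⟶ G.reprX => famMap H φ u) := by
    have h : Function.Bijective (fun φ : Z.obj ⟶ G.reprX => G.representableBy.homEquiv φ) :=
      Equiv.bijective _
    refine ⟨fun a b hab => h.1 ?_, fun e => ?_⟩
    · exact (G.representableBy.homEquiv_eq a).trans (hab.trans (G.representableBy.homEquiv_eq b).symm)
    · obtain ⟨φ, hφ⟩ := h.2 e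
      exact ⟨φ, (G.representableBy.homEquiv_eq φ).symm.trans hφ⟩
  refine ⟨fun φ φ' h => hb.1 (Subtype.ext (funext fun W => funext fun a => ?_)), fun ξ => ?_⟩
  · change u.1 W (a ≫ φ) = u.1 W (a ≫ φ')
    exact (fam_nat H u (ObjectProperty.homMk a) φ).trans
      ((congrArg _ h).trans (fam_nat H u (ObjectProperty.homMk a) φ').symm)
  · obtain ⟨φ, hφ⟩ := hb.2 (famOf H ξ)
    refine ⟨φ, ?_⟩
    have h1 : u.1 Z (𝟙 Z.obj ≫ φ) = H.map (𝟙 Z).op ξ :=
      congrFun (congrFun (congrArg Subtype.val hφ) Z) (𝟙 Z.obj)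
    rw [Category.id_comp, map_id_apply] at h1
    exact h1

end BrownFinLib.LS
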