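import Groth.Agent.BrownFinLib.Solve
import Groth.Agent.BrownFinLib.Small

/-!
# Functors on compact objects with finite dimensional values are representable
-/

set_option autoImplicit false
set_option linter.style.haveILetI false
set_option linter.unusedSectionVars false
set_option maxHeartbeats 1000000
set_option backward.isDefEq.respectTransparency false
set_option backward.isDefEq.respectTransparency.types false

universe w v u

open CategoryTheory CategoryTheory.Limits CategoryTheory.Pretriangulated CompactLib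
open CategoryTheory.Pretriangulated.Opposite
open scoped ZeroObject
open Opposite (op unop)

namespace BrownFinLib

variable {k : Type w} [Field k] {D : Type u} [Category.{v} D] [Preadditive D] [HasCoproducts.{v} D]

/-- The compact objects. -/
abbrev Dc (D : Type u) [Category.{v} D] [Preadditive D] [HasCoproducts.{v} D] :=
  ObjectProperty.FullSubcategory (fun K : D => CohDer.IsCompactObject K)

variable (H : (Dc D)ᵒᵖ ⥤ ModuleCat.{v} k)

/-- Compatible families of elements on compact objects over `Y`. -/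
def famSubgroup (Y : D) : AddSubgroup (∀ Z : Dc D, (Z.obj ⟶ Y) → H.obj (op Z)) where
  carrier := {e | ∀ ⦃W Z : Dc D⦄ (f : W ⟶ Z) (φ : Z.obj ⟶ Y), e W (f.hom ≫ φ) = H.map f.op (e Z φ)}
  add_mem' := fun {a b} ha hb W Z f φ => by simp only [Pi.add_apply, map_add, ha f φ, hb f φ]
  zero_mem' := fun W Z f φ => (map_zero _).symm
  neg_mem' := fun {a} ha W Z f φ => by simp only [Pi.neg_apply, map_neg, ha f φ]

/-- Compatible families. -/
abbrev Fam (Y : D) := ↥(famSubgroup H Y)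

theorem fam_nat {Y : D} (e : Fam H Y) {W Z : Dc D} (f : W ⟶ Z) (φ : Z.obj ⟶ Y) :
    e.1 W (f.hom ≫ φ) = H.map f.op (e.1 Z φ) := e.2 f φ

theorem map_comp_apply {U W Z : Dc D} (f : U ⟶ W) (g : W ⟶ Z) (x : H.obj (op Z)) :
    H.map (f ≫ g).op x = H.map f.op (H.map g.op x) := by
  rw [op_comp, Functor.map_comp]
  rfl

theorem map_id_apply {Z : Dc D} (x : H.obj (op Z)) : H.map (𝟙 Z).op x = x := by
  rw [op_id, CategoryTheory.Functor.map_id]
  rfl

/-- Restriction of families. -/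
def famMap {Y Y' : D} (g : Y' ⟶ Y) : Fam H Y →+ Fam H Y' where
  toFun e := ⟨fun Z φ => e.1 Z (φ ≫ g), fun W Z f φ =>
    (congrArg (e.1 W) (Category.assoc f.hom φ g)).trans (fam_nat H e f (φ ≫ g))⟩
  map_zero' := rfl
  map_add' _ _ := rfl

/-- The family of an element. -/
def famOf {Z : Dc D} (x : H.obj (op Z)) : Fam H Z.obj :=
  ⟨fun W a => H.map (ObjectProperty.homMk a : W ⟶ Z).op x, fun W W' f φ => by
    rw [← map_comp_apply]
    rfl⟩

variable [H.Additive]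

theorem map_add_apply {W Z : Dc D} (f g : W ⟶ Z) (x : H.obj (op Z)) :
    H.map (f + g).op x = H.map f.op x + H.map g.op x := by
  rw [op_add, Functor.map_add]
  rfl

theorem map_sub_apply {W Z : Dc D} (f g : W ⟶ Z) (x : H.obj (op Z)) :
    H.map (f - g).op x = H.map f.op x - H.map g.op x := by
  rw [eq_sub_iff_add_eq, ← map_add_apply, sub_add_cancel]

variable [HasZeroObject D] [HasShift D ℤ] [∀ n : ℤ, (shiftFunctor D n).Additive] [Pretriangulated D]

theorem fam_add {Y : D} (e : Fam H Y) (Z : Dc D) (φ ψ : Z.obj ⟶ Y) :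
    e.1 Z (φ + ψ) = e.1 Z φ + e.1 Z ψ := by
  let B : Dc D := ⟨Z.obj ⊞ Z.obj, isCompact_biprod Z.property Z.property⟩
  let i₁ : Z ⟶ B := ObjectProperty.homMk biprod.inl
  let i₂ : Z ⟶ B := ObjectProperty.homMk biprod.inr
  have h1 : e.1 Z φ = H.map i₁.op (e.1 B (biprod.desc φ ψ)) := by
    rw [← fam_nat H e i₁]
    exact congrArg (e.1 Z) (biprod.inl_desc φ ψ).symm
  have h2 : e.1 Z ψ = H.map i₂.op (e.1 B (biprod.desc φ ψ)) := by
    rw [← fam_nat H e i₂]
    exact congrArg (e.1 Z) (biprod.inr_desc φ ψ).symm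
  rw [h1, h2, ← map_add_apply, ← fam_nat H e]
  refine congrArg (e.1 Z) ?_
  change φ + ψ = (biprod.inl + biprod.inr) ≫ biprod.desc φ ψ
  rw [Preadditive.add_comp, biprod.inl_desc, biprod.inr_desc]

/-- A family on one compact object, as a homomorphism. -/
def famHom {Y : D} (e : Fam H Y) (Z : Dc D) : (Z.obj ⟶ Y) →+ H.obj (op Z) :=
  AddMonoidHom.mk' (e.1 Z) (fam_add H e Z)

theorem fam_zero {Y : D} (e : Fam H Y) (Z : Dc D) : e.1 Z 0 = 0 := map_zero (famHom H e Z)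

theorem famHom_eqOn {ι : Type v} {X : ι → D} {A : Type*} [AddCommGroup A] {Z : Dc D}
    (a b : (Z.obj ⟶ ∐ X) →+ A)
    (h : ∀ (i : ι) (t : Z.obj ⟶ X i), a (t ≫ Sigma.ι X i) = b (t ≫ Sigma.ι X i)) : a = b := by
  refine AddMonoidHom.ext fun φ => ?_
  refine AddMonoidHom.eqOn_closure (s := {g | ∃ (i : ι) (t : Z.obj ⟶ X i), g = t ≫ Sigma.ι X i})
    ?_ (fac_of_compact Z.property ι X φ)
  rintro _ ⟨i, t, rfl⟩
  exact h i t

/-- Families turn coproducts into products. -/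
theorem existsUnique_fam {ι : Type v} (X : ι → D) (x : ∀ i, Fam H (X i)) :
    ∃! e : Fam H (∐ X), ∀ i, famMap H (Sigma.ι X i) e = x i := by
  classical
  let E : ∀ Z : Dc D, (Z.obj ⟶ ∐ X) →+ H.obj (op Z) := fun Z =>
    (DirectSum.toAddMonoid fun i => famHom H (x i) Z).comp
      (AddEquiv.ofBijective _ (Z.property ι X)).symm.toAddMonoidHom
  have hE : ∀ (Z : Dc D) (i : ι) (t : Z.obj ⟶ X i), E Z (t ≫ Sigma.ι X i) = (x i).1 Z t := by
    intro Z i t
    have h1 : (AddEquiv.ofBijective _ (Z.property ι X)).symm (t ≫ Sigma.ι X i) =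
        DirectSum.of (fun i => Z.obj ⟶ X i) i t := by
      apply (AddEquiv.ofBijective _ (Z.property ι X)).injective
      rw [AddEquiv.apply_symm_apply]
      simp [CohDer.homSumToHomCoprod, Preadditive.rightComp]
    change DirectSum.toAddMonoid (fun i => famHom H (x i) Z) _ = _
    erw [h1, DirectSum.toAddMonoid_of]
    rfl
  have hnat : ∀ ⦃W Z : Dc D⦄ (f : W ⟶ Z) (φ : Z.obj ⟶ ∐ X),
      E W (f.hom ≫ φ) = H.map f.op (E Z φ) := fun W Z f φ => by
    refine DFunLike.congr_fun (famHom_eqOn (a := (E W).comp (Preadditive.leftComp (∐ X) f.hom))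
      (b := ((H.map f.op).hom.toAddMonoidHom).comp (E Z)) fun i t => ?_) φ
    change E W (f.hom ≫ t ≫ Sigma.ι X i) = H.map f.op (E Z (t ≫ Sigma.ι X i))
    rw [hE, ← Category.assoc, hE, fam_nat H (x i) f t]
  refine ⟨⟨fun Z φ => E Z φ, hnat⟩, fun i => Subtype.ext (funext fun Z => funext fun t => hE Z i t),
    fun e he => Subtype.ext (funext fun Z => funext fun φ => ?_)⟩
  refine DFunLike.congr_fun (famHom_eqOn (a := famHom H e Z) (b := E Z) fun i t => ?_) φ
  rw [hE, ← he i]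
  rfl

variable [IsTriangulated D]

/-- Finitely many compact objects over `Y` map to a single one. -/
theorem exists_cover {Y : D} (s : Finset (Σ Z : Dc D, (Z.obj ⟶ Y))) :
    ∃ (W : Dc D) (ψ : W.obj ⟶ Y), ∀ x ∈ s, ∃ ι : x.1 ⟶ W, ι.hom ≫ ψ = x.2 := by
  classical
  induction s using Finset.induction_on with
  | empty =>
    exact ⟨⟨_, isCompact_zero (isZero_zero D)⟩, 0, fun x hx => absurd hx (Finset.notMem_empty x)⟩
  | @insert a s _ ih =>
    obtain ⟨W, ψ, hW⟩ := ih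
    refine ⟨⟨a.1.obj ⊞ W.obj, isCompact_biprod a.1.property W.property⟩, biprod.desc a.2 ψ,
      fun x hx => ?_⟩
    rcases Finset.mem_insert.1 hx with rfl | hx
    · exact ⟨ObjectProperty.homMk biprod.inl, biprod.inl_desc _ _⟩
    · obtain ⟨ι, hι⟩ := hW x hx
      exact ⟨ι ≫ ObjectProperty.homMk biprod.inr,
        (Category.assoc _ _ _).trans ((congrArg (ι.hom ≫ ·) (biprod.inr_desc _ _)).trans hι)⟩

/-- A single constraint. -/
structure Cond {Y₂ Y₃ : D} (g : Y₂ ⟶ Y₃) {W : Dc D} (ψ : W.obj ⟶ Y₃) where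
  /-- The source. -/
  P : Dc D
  /-- The map. -/
  p : P ⟶ W
  /-- The lift. -/
  φ : P.obj ⟶ Y₂
  comm : p.hom ≫ ψ = φ ≫ g

theorem exists_cond {Y₂ Y₃ : D} (g : Y₂ ⟶ Y₃) {W : Dc D} (ψ : W.obj ⟶ Y₃) {α : Type*} (t : Finset α)
    (c : α → Cond g ψ) :
    ∃ C : Cond g ψ, ∀ j ∈ t, ∃ r : (c j).P ⟶ C.P, r ≫ C.p = (c j).p ∧ r.hom ≫ C.φ = (c j).φ := by
  classical
  induction t using Finset.induction_on with
  | empty =>
    exact ⟨⟨⟨_, isCompact_zero (isZero_zero D)⟩, ObjectProperty.homMk 0, 0,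
      show (0 : (0 : D) ⟶ W.obj) ≫ ψ = 0 ≫ g by simp⟩, fun x hx => absurd hx (Finset.notMem_empty x)⟩
  | @insert a s _ ih =>
    obtain ⟨C, hC⟩ := ih
    refine ⟨⟨⟨(c a).P.obj ⊞ C.P.obj, isCompact_biprod (c a).P.property C.P.property⟩,
      ObjectProperty.homMk (biprod.desc (c a).p.hom C.p.hom), biprod.desc (c a).φ C.φ, ?_⟩,
      fun x hx => ?_⟩
    · change biprod.desc (c a).p.hom C.p.hom ≫ ψ = biprod.desc (c a).φ C.φ ≫ g
      ext <;> simp [(c a).comm, C.comm]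
    rcases Finset.mem_insert.1 hx with rfl | hx
    · exact ⟨ObjectProperty.homMk biprod.inl, ObjectProperty.hom_ext _ (biprod.inl_desc _ _),
        biprod.inl_desc _ _⟩
    · obtain ⟨r, hr, hr'⟩ := hC x hx
      refine ⟨r ≫ ObjectProperty.homMk biprod.inr, ObjectProperty.hom_ext _ ?_,
        (Category.assoc _ _ _).trans ((congrArg (r.hom ≫ ·) (biprod.inr_desc _ _)).trans hr')⟩
      refine (Category.assoc _ _ _).trans ((congrArg (r.hom ≫ ·) (biprod.inr_desc _ _)).trans ?_)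
      exact congrArg InducedCategory.Hom.hom hr

variable (hcoh : ∀ T ∈ distTriang D, ∀ (h₁ : CohDer.IsCompactObject T.obj₁)
      (h₂ : CohDer.IsCompactObject T.obj₂) (h₃ : CohDer.IsCompactObject T.obj₃)
      (y : H.obj (op ⟨T.obj₂, h₂⟩)),
      H.map (ObjectProperty.homMk T.mor₁ : (⟨T.obj₁, h₁⟩ : Dc D) ⟶ ⟨T.obj₂, h₂⟩).op y = 0 →
        ∃ z : H.obj (op ⟨T.obj₃, h₃⟩),
          H.map (ObjectProperty.homMk T.mor₂ : (⟨T.obj₂, h₂⟩ : Dc D) ⟶ ⟨T.obj₃, h₃⟩).op z = y)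

include hcoh in
theorem exists_elt {Y₁ Y₂ Y₃ : D} (f : Y₁ ⟶ Y₂) (g : Y₂ ⟶ Y₃) (δ : Y₃ ⟶ Y₁⟦(1 : ℤ)⟧)
    (hT : Triangle.mk f g δ ∈ distTriang D) (η : Fam H Y₂) (hη : famMap H f η = 0)
    {W : Dc D} {ψ : W.obj ⟶ Y₃} (C : Cond g ψ) :
    ∃ e : H.obj (op W), H.map C.p.op e = η.1 C.P C.φ := by
  obtain ⟨Q, q, h, hQ⟩ := distinguished_cocone_triangle₁ C.p.hom
  have hQc : CohDer.IsCompactObject Q := isCompact_obj₁ _ hQ C.P.property W.property
  have h0 : (q ≫ C.φ) ≫ g = 0 := by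
    rw [Category.assoc, ← C.comm, ← Category.assoc]
    exact (congrArg (· ≫ ψ) (comp_distTriang_mor_zero₁₂ _ hQ)).trans zero_comp
  obtain ⟨ψ', hψ'⟩ := Triangle.coyoneda_exact₂ _ hT _ h0
  refine hcoh _ hQ hQc C.P.property W.property _ ?_
  refine (fam_nat H η (W := ⟨Q, hQc⟩) (Z := C.P) (ObjectProperty.homMk q) C.φ).symm.trans ?_
  refine (congrArg (η.1 ⟨Q, hQc⟩) hψ').trans ?_
  exact congrFun (congrFun (congrArg Subtype.val hη) ⟨Q, hQc⟩) ψ'

include hcoh in
theorem exists_fam_ext [∀ X, Module.Finite k (H.obj X)] {Y₁ Y₂ Y₃ : D} (f : Y₁ ⟶ Y₂) (g : Y₂ ⟶ Y₃)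
    (δ : Y₃ ⟶ Y₁⟦(1 : ℤ)⟧) (hT : Triangle.mk f g δ ∈ distTriang D) (η : Fam H Y₂)
    (hη : famMap H f η = 0) : ∃ θ : Fam H Y₃, famMap H g θ = η := by
  classical
  let I := Σ Z : Dc D, (Z.obj ⟶ Y₃)
  let V : I → Type v := fun x => H.obj (op x.1)
  let sgl : ∀ x : I, Module.Dual k (V x) → (Π₀ i : I, Module.Dual k (V i)) := fun x =>
    DFinsupp.single (β := fun i : I => Module.Dual k (V i)) x
  let J := (Σ (y : I) (Z : Dc D) (_ : Z ⟶ y.1), Module.Dual k (H.obj (op Z))) ⊕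
    (Σ (Z : Dc D) (_ : Z.obj ⟶ Y₂), Module.Dual k (H.obj (op Z)))
  let a : J → Π₀ i : I, Module.Dual k (V i) := fun j => match j with
    | .inl ⟨y, Z, h, ξ⟩ => sgl y (ξ ∘ₗ (H.map h.op).hom) + sgl ⟨Z, h.hom ≫ y.2⟩ (-ξ)
    | .inr ⟨Z, φ, ξ⟩ => sgl ⟨Z, φ ≫ g⟩ ξ
  let c : J → k := fun j => match j with
    | .inl _ => 0
    | .inr ⟨Z, φ, ξ⟩ => ξ (η.1 Z φ)
  let idx : J → Finset I := fun j => match j with
    | .inl ⟨y, Z, h, _⟩ => {y, ⟨Z, h.hom ≫ y.2⟩}
    | .inr ⟨Z, φ, _⟩ => {⟨Z, φ ≫ g⟩}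
  have hp : ∀ (e : ∀ i, V i) (x : I) (ξ : Module.Dual k (V x)), pair V e (sgl x ξ) = ξ (e x) :=
    fun e x ξ => pair_single V e x ξ
  haveI : ∀ i : I, FiniteDimensional k (V i) := fun i => inferInstanceAs (Module.Finite k (H.obj (op i.1)))
  obtain ⟨e, he⟩ := exists_solution V a c fun t => by
    obtain ⟨W, ψ, hW⟩ := exists_cover (t.biUnion idx)
    let ιf : ∀ x : I, x.1 ⟶ W := fun x => if hx : x ∈ t.biUnion idx then (hW x hx).choose else 0
    have hι : ∀ x ∈ t.biUnion idx, (ιf x).hom ≫ ψ = x.2 := fun x hx => by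
      simp only [ιf, dif_pos hx]
      exact (hW x hx).choose_spec
    have hmem₁ : ∀ y Z h ξ, (Sum.inl ⟨y, Z, h, ξ⟩ : J) ∈ t →
        y ∈ t.biUnion idx ∧ (⟨Z, h.hom ≫ y.2⟩ : I) ∈ t.biUnion idx := fun y Z h ξ hj =>
      ⟨Finset.mem_biUnion.2 ⟨_, hj, by simp [idx]⟩, Finset.mem_biUnion.2 ⟨_, hj, by simp [idx]⟩⟩
    have hmem₂ : ∀ Z φ ξ, (Sum.inr ⟨Z, φ, ξ⟩ : J) ∈ t → (⟨Z, φ ≫ g⟩ : I) ∈ t.biUnion idx :=
      fun Z φ ξ hj => Finset.mem_biUnion.2 ⟨_, hj, by simp [idx]⟩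
    let cd : {j // j ∈ t} → Cond g ψ := fun j => match j with
        | ⟨.inl ⟨y, Z, h, ξ⟩, hj⟩ => ⟨Z, ιf ⟨Z, h.hom ≫ y.2⟩ - h ≫ ιf y, 0, by
            change ((ιf ⟨Z, h.hom ≫ y.2⟩).hom - h.hom ≫ (ιf y).hom) ≫ ψ = 0 ≫ g
            rw [Preadditive.sub_comp, hι _ (hmem₁ y Z h ξ hj).2, Category.assoc,
              hι _ (hmem₁ y Z h ξ hj).1, sub_self, zero_comp]⟩
        | ⟨.inr ⟨Z, φ, ξ⟩, hj⟩ => ⟨Z, ιf ⟨Z, φ ≫ g⟩, φ, hι _ (hmem₂ Z φ ξ hj)⟩
    obtain ⟨C, hC⟩ := exists_cond g ψ t.attach cd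
    obtain ⟨eW, heW⟩ := exists_elt H hcoh f g δ hT η hη C
    have key : ∀ j, H.map (cd j).p.op eW = η.1 (cd j).P (cd j).φ := fun j => by
      obtain ⟨r, hr, hr'⟩ := hC j (Finset.mem_attach _ j)
      rw [← hr, map_comp_apply, heW, ← hr', fam_nat H η]
    refine ⟨fun x => H.map (ιf x).op eW, fun j hj => ?_⟩
    have hk := key ⟨j, hj⟩
    rcases j with ⟨y, Z, h, ξ⟩ | ⟨Z, φ, ξ⟩
    · simp only [cd] at hk
      rw [map_sub_apply, map_comp_apply, fam_zero] at hk
      simp only [a, c, map_add, hp, LinearMap.comp_apply, LinearMap.neg_apply]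
      rw [sub_eq_zero.1 hk]
      exact add_neg_cancel _
    · simp only [cd] at hk
      simp only [a, c, hp]
      rw [hk]
  refine ⟨⟨fun Z φ => e ⟨Z, φ⟩, fun W Z h φ => ?_⟩, Subtype.ext (funext fun Z => funext fun φ => ?_)⟩
  · refine sub_eq_zero.1 ((Module.forall_dual_apply_eq_zero_iff (R := k) _).1 fun ξ => ?_)
    have h1 := he (Sum.inl ⟨⟨Z, φ⟩, W, h, ξ⟩)
    simp only [a, c, map_add, hp, LinearMap.comp_apply, LinearMap.neg_apply] at h1
    rw [map_sub, ← neg_sub, sub_eq_add_neg]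
    exact neg_eq_zero.2 h1
  · refine sub_eq_zero.1 ((Module.forall_dual_apply_eq_zero_iff (R := k) _).1 fun ξ => ?_)
    have h1 := he (Sum.inr ⟨Z, φ, ξ⟩)
    simp only [a, c, hp] at h1
    rw [map_sub, sub_eq_zero]
    exact h1

theorem small_fam (hD : CohDer.IsCompactlyGenerated D) (Y : D) : Small.{v} (Fam H Y) := by
  haveI := essentiallySmall_compact hD
  obtain ⟨Q, _, hQ, hQ'⟩ := ObjectProperty.EssentiallySmall.exists_small_le.{v}
    (fun C : D => CohDer.IsCompactObject C)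
  refine small_of_injective
    (f := fun (e : Fam H Y) (q : Subtype Q) (φ : q.1 ⟶ Y) => e.1 ⟨q.1, hQ _ q.2⟩ φ) fun e e' h => ?_
  refine Subtype.ext (funext fun Z => funext fun φ => ?_)
  obtain ⟨Z₀, hZ₀, ⟨i⟩⟩ := hQ' _ Z.property
  let i' : Z ⟶ (⟨Z₀, hQ _ hZ₀⟩ : Dc D) := ObjectProperty.homMk i.hom
  have hi : φ = i'.hom ≫ i.inv ≫ φ := (i.hom_inv_id_assoc φ).symm
  rw [hi, fam_nat H e, fam_nat H e']
  exact congrArg _ (congrFun (congrFun h ⟨Z₀, hZ₀⟩) (i.inv ≫ φ))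

/-- The extension of `H` to all objects. -/
noncomputable def ext [∀ Y : D, Small.{v} (Fam H Y)] : Dᵒᵖ ⥤ AddCommGrpCat.{v} where
  obj Y := AddCommGrpCat.of (Shrink.{v} (Fam H Y.unop))
  map {Y Y'} g := AddCommGrpCat.ofHom ((Shrink.addEquiv (α := Fam H Y'.unop)).symm.toAddMonoidHom.comp
    ((famMap H g.unop).comp (Shrink.addEquiv (α := Fam H Y.unop)).toAddMonoidHom))
  map_id Y := by
    refine ConcreteCategory.hom_ext _ _ fun x => ?_
    change (Shrink.addEquiv (α := Fam H Y.unop)).symm (famMap H (𝟙 Y.unop) (Shrink.addEquiv x)) = x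
    rw [show famMap H (𝟙 Y.unop) (Shrink.addEquiv x) = Shrink.addEquiv x from
      Subtype.ext (funext fun Z => funext fun φ => congrArg _ (Category.comp_id φ)),
      AddEquiv.symm_apply_apply]
  map_comp {Y Y' Y''} g g' := by
    refine ConcreteCategory.hom_ext _ _ fun x => ?_
    change (Shrink.addEquiv (α := Fam H Y''.unop)).symm _ = (Shrink.addEquiv (α := Fam H Y''.unop)).symm
      (famMap H g'.unop (Shrink.addEquiv ((Shrink.addEquiv (α := Fam H Y'.unop)).symm _)))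
    rw [AddEquiv.apply_symm_apply]
    refine congrArg _ (Subtype.ext (funext fun Z => funext fun φ => ?_))
    exact congrArg _ (Category.assoc φ g'.unop g.unop).symm

/-- The family behind an element of the extension. -/
noncomputable def toFam [∀ Y : D, Small.{v} (Fam H Y)] {Y : D} (x : (ext H).obj (op Y)) : Fam H Y :=
  Shrink.addEquiv (α := Fam H Y) x

theorem toFam_pb [∀ Y : D, Small.{v} (Fam H Y)] {Y Y' : D} (g : Y' ⟶ Y) (x : (ext H).obj (op Y)) :
    toFam H ((ext H).map g.op x) = famMap H g (toFam H x) :=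
  AddEquiv.apply_symm_apply _ _

theorem toFam_bijective [∀ Y : D, Small.{v} (Fam H Y)] (Y : D) :
    Function.Bijective (toFam H (Y := Y)) := (Shrink.addEquiv (α := Fam H Y)).bijective

theorem preservesLimitsOfShape_ext [∀ Y : D, Small.{v} (Fam H Y)] (ι : Type v) :
    PreservesLimitsOfShape (Discrete ι) (ext H) := by
  refine ⟨fun {K} => ?_⟩
  haveI : PreservesLimit (Discrete.functor fun j => op ((K.obj ⟨j⟩).unop)) (ext H) := by
    refine preservesLimit_of_preserves_limit_cone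
      (Cofan.IsColimit.op (coproductIsCoproduct fun j => (K.obj ⟨j⟩).unop)) ?_
    refine isLimitOfReflects (forget AddCommGrpCat.{v}) (Nonempty.some ?_)
    refine (Types.isLimit_iff _).2 fun s hs => ?_
    obtain ⟨e, he, huniq⟩ := existsUnique_fam H (fun j => (K.obj ⟨j⟩).unop)
      (fun j => toFam H (Y := (K.obj ⟨j⟩).unop) (s ⟨j⟩))
    obtain ⟨x, hx⟩ := (toFam_bijective H _).2 e
    refine ⟨x, fun j => (toFam_bijective H _).1 ?_, fun y hy => (toFam_bijective H _).1 ?_⟩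
    · exact (toFam_pb H (Sigma.ι (fun j => (K.obj ⟨j⟩).unop) j.as) x).trans
        ((congrArg _ hx).trans (he j.as))
    · refine (huniq (toFam H y) fun i => ?_).trans hx.symm
      exact (toFam_pb H (Sigma.ι (fun j => (K.obj ⟨j⟩).unop) i) y).symm.trans
        (congrArg (toFam H) (hy ⟨i⟩))
  haveI : PreservesLimit (Discrete.functor (K.obj ∘ Discrete.mk)) (ext H) :=
    inferInstanceAs (PreservesLimit (Discrete.functor fun j => op ((K.obj ⟨j⟩).unop)) (ext H))
  exact preservesLimit_of_iso_diagram _ (Discrete.natIsoFunctor (F := K)).symm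

include hcoh in
theorem isHomological_ext [∀ Y : D, Small.{v} (Fam H Y)] [∀ X, Module.Finite k (H.obj X)] :
    (ext H).IsHomological := by
  haveI : (ext H).PreservesZeroMorphisms := ⟨fun X Y => by
    refine ConcreteCategory.hom_ext _ _ fun x => (toFam_bijective H Y.unop).1 ?_
    refine (toFam_pb H (0 : Y.unop ⟶ X.unop) x).trans ?_
    refine Subtype.ext (funext fun Z => funext fun φ => ?_)
    change (toFam H x).1 Z (φ ≫ 0) = (toFam H (0 : (ext H).obj Y)).1 Z φ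
    rw [comp_zero, fam_zero]
    exact (congrFun (congrFun (congrArg Subtype.val (map_zero (Shrink.addEquiv (α := Fam H Y.unop)))) Z) φ).symm⟩
  refine ⟨fun T hT => ?_⟩
  rw [ShortComplex.ab_exact_iff]
  intro x hx
  have hT' := (mem_distTriang_op_iff T).1 hT
  have h0 : famMap H T.mor₂.unop (toFam H x) = 0 := by
    refine (toFam_pb H T.mor₂.unop x).symm.trans ?_
    exact (congrArg (toFam H) hx).trans (map_zero (Shrink.addEquiv (α := Fam H T.obj₃.unop)))
  obtain ⟨θ, hθ⟩ := exists_fam_ext H hcoh _ _ _ hT' (toFam H x) h0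
  obtain ⟨z, hz⟩ := (toFam_bijective H T.obj₁.unop).2 θ
  refine ⟨z, (toFam_bijective H T.obj₂.unop).1 ?_⟩
  exact (toFam_pb H T.mor₁.unop z).trans ((congrArg _ hz).trans hθ)

include hcoh in
/-- Representability. -/
theorem exists_rep (hD : CohDer.IsCompactlyGenerated D) [∀ X, Module.Finite k (H.obj X)] :
    ∃ (Y : D) (u : Fam H Y), ∀ Z : Dc D, Function.Bijective (u.1 Z) := by
  haveI := fun Y => small_fam H hD Y
  haveI := fun ι => preservesLimitsOfShape_ext H ι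
  haveI := isHomological_ext H hcoh
  haveI := Groth.Agent.DerLib.Brown.isRepresentable_of_compactlyGenerated hD (ext H)
  let G := ext H ⋙ forget AddCommGrpCat.{v}
  let u := toFam H (Y := G.reprX) G.reprx
  refine ⟨G.reprX, u, fun Z => ?_⟩
  have hb : Function.Bijective (fun φ : Z.obj ⟶ G.reprX => famMap H φ u) := by
    have h : Function.Bijective (fun φ : Z.obj ⟶ G.reprX =>
        toFam H (Y := Z.obj) (G.representableBy.homEquiv φ)) :=
      (toFam_bijective H Z.obj).comp (Equiv.bijective _)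
    convert h using 1
    funext φ
    symm
    refine (congrArg (toFam H) (G.representableBy.homEquiv_eq φ)).trans ?_
    exact toFam_pb H φ G.reprx
  refine ⟨fun φ φ' h => hb.1 (Subtype.ext (funext fun W => funext fun a => ?_)), fun ξ => ?_⟩
  · change u.1 W (a ≫ φ) = u.1 W (a ≫ φ')
    exact (fam_nat H u (ObjectProperty.homMk a) φ).trans
      ((congrArg _ h).trans (fam_nat H u (ObjectProperty.homMk a) φ').symm)
  · obtain ⟨φ, hφ⟩ := hb.2 (famOf H ξ)
    refine ⟨φ, ?_⟩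
    have h1 : u.1 Z (𝟙 Z.obj ≫ φ) = H.map (𝟙 Z).op ξ :=
      congrFun (congrFun (congrArg Subtype.val hφ) Z) (𝟙 Z.obj)
    rw [Category.id_comp, map_id_apply] at h1
    exact h1

end BrownFinLib
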