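import Groth.Agent.S6720
import Groth.Agent.VBResLib.RegPerfect
import Groth.Agent.QCohLib.Coherent
import Groth.Prelude.Def_KLin
import Groth.Prelude.Def_SGA6

/-!
# Point sheaves span the perfect objects
-/

set_option autoImplicit false
set_option linter.style.haveILetI false
set_option backward.isDefEq.respectTransparency false
set_option backward.isDefEq.respectTransparency.types false
set_option maxHeartbeats 1000000

universe u

open CategoryTheory CategoryTheory.Limits AlgebraicGeometry
open Groth.Agent

attribute [local instance] HasDerivedCategory.standard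

namespace BrownFinLib.Points

section

variable {X : Scheme.{u}} [(SGA6.perfP X).IsTriangulated]

/-- Translating shifted homs of perfect objects. -/
theorem eq_zero_hom {A B : (SGA6.perfP X).FullSubcategory} (i : ℤ)
    (h : ∀ f : A ⟶ (shiftFunctor (SGA6.perfP X).FullSubcategory i).obj B, f = 0)
    (φ : A.obj ⟶ (shiftFunctor (DCoh.D X) i).obj B.obj) : φ = 0 := by
  have h1 := congrArg InducedCategory.Hom.hom
    (h (ObjectProperty.homMk (φ ≫ ((SGA6.perfP X).ι.commShiftIso i).inv.app B)))
  have h2 : φ ≫ ((SGA6.perfP X).ι.commShiftIso i).inv.app B = 0 := h1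
  exact zero_of_comp_mono _ h2

end

variable {k : Type u} [Field k] {X : Scheme.{u}} [X.Over (Spec (.of k))] [IsProper (X ↘ Spec (.of k))]

include k

theorem isCoh_ptSheaf {x : X} (hx : IsClosed ({x} : Set X)) :
    Coh.IsCoh ((Coh.push (X.fromSpecResidueField x)).obj (Coh.structureModule _)) := by
  haveI : IsLocallyNoetherian X := LocallyOfFiniteType.isLocallyNoetherian (X ↘ Spec (.of k))
  haveI : IsClosedImmersion (X.fromSpecResidueField x) := isClosed_singleton_iff_isClosedImmersion.1 hx
  exact QCohLib.isCoh_push_finite (X.fromSpecResidueField x) _ (DevissLib.isCoh_structureModule _)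

theorem isPerfect_ptSheaf (hreg : Models.IsRegularScheme X) {x : X} (hx : IsClosed ({x} : Set X)) :
    DCoh.IsPerfect (DCoh.inD X ((Coh.push (X.fromSpecResidueField x)).obj (Coh.structureModule _))) := by
  haveI : IsLocallyNoetherian X := LocallyOfFiniteType.isLocallyNoetherian (X ↘ Spec (.of k))
  exact VBResLib.isPerfect_inD_of_regular hreg (isCoh_ptSheaf (k := k) hx)

/-- A perfect object with no maps from, or no maps to, all point sheaves is zero. -/
theorem isZero_of_orth (hreg : Models.IsRegularScheme X) {K : DCoh.D X} (hK : DCoh.IsPerfect K)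
    (h : ∀ x : X, IsClosed ({x} : Set X) →
      (∀ (i : ℤ) (φ : DCoh.inD X ((Coh.push (X.fromSpecResidueField x)).obj (Coh.structureModule _)) ⟶
        (shiftFunctor (DCoh.D X) i).obj K), φ = 0) ∨
      (∀ (i : ℤ) (φ : K ⟶ (shiftFunctor (DCoh.D X) i).obj
        (DCoh.inD X ((Coh.push (X.fromSpecResidueField x)).obj (Coh.structureModule _)))), φ = 0)) :
    IsZero K := by
  haveI : IsLocallyNoetherian X := LocallyOfFiniteType.isLocallyNoetherian (X ↘ Spec (.of k))
  haveI : CompactSpace ↥X := QuasiCompact.compactSpace_of_compactSpace (X ↘ Spec (.of k))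
  haveI : IsNoetherian X := {}
  obtain ⟨hKc, -⟩ := Groth.Agent.PerfLib.isCohD_and_bounded_of_isPerfect hK
  refine (DCohRestrLib.isZero_iff_HD K).2 fun i => (DCohRestrLib.isZero_iff_support_empty _).2 ?_
  by_contra hne
  obtain ⟨x, hxS, hx⟩ := (QCohLib.isClosed_support _ (hKc i).2).exists_closed_singleton
    (Set.nonempty_iff_ne_empty.2 hne)
  obtain ⟨U, hxU, hU⟩ : ∃ U : X.Opens, x ∈ U ∧ ∀ (i : ℤ) (y : X), y ∈ U → y ∉ CohB1.support (DCoh.HD K i) :=
    (h x hx).elim (Groth.Agent.S6720.result k X hreg x hx K hK).1 (Groth.Agent.S6720.result k X hreg x hx K hK).2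
  exact hU i x hxU hxS

end BrownFinLib.Points
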