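import Mathlib

/-!
# Affine systems in products of finite dimensional spaces
-/

set_option autoImplicit false

namespace BrownFinLib

set_option maxHeartbeats 1000000

variable {k : Type*} [Field k] {I : Type*} [DecidableEq I] (V : I → Type*) [∀ i, AddCommGroup (V i)]
  [∀ i, Module k (V i)]

/-- Evaluation of finitely supported equations at a point. -/
noncomputable def pair (e : ∀ i, V i) : (Π₀ i, Module.Dual k (V i)) →ₗ[k] k :=
  DFinsupp.lsum ℕ fun i => Module.Dual.eval k (V i) (e i)

@[simp]
theorem pair_single (e : ∀ i, V i) (i : I) (ξ : Module.Dual k (V i)) :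
    pair V e (DFinsupp.single i ξ) = ξ (e i) := by
  simp [pair]

/-- A linear map factors through another with smaller kernel. -/
theorem exists_comp_eq {A M N : Type*} [AddCommMonoid A] [Module k A] [AddCommMonoid M] [Module k M]
    [AddCommMonoid N] [Module k N] (L : A →ₗ[k] M) (C : A →ₗ[k] N)
    (hker : LinearMap.ker L ≤ LinearMap.ker C) : ∃ F : M →ₗ[k] N, ∀ l, F (L l) = C l := by
  letI : AddCommGroup A := Module.addCommMonoidToAddCommGroup k
  letI : AddCommGroup M := Module.addCommMonoidToAddCommGroup k
  letI : AddCommGroup N := Module.addCommMonoidToAddCommGroup k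
  obtain ⟨g, hg⟩ := LinearMap.exists_leftInverse_of_injective ((LinearMap.ker L).liftQ L le_rfl)
    (Submodule.ker_liftQ_eq_bot (LinearMap.ker L) L le_rfl le_rfl)
  refine ⟨((LinearMap.ker L).liftQ C hker).comp g, fun l => ?_⟩
  have h1 : g (L l) = Submodule.Quotient.mk l := LinearMap.congr_fun hg (Submodule.Quotient.mk l)
  rw [LinearMap.comp_apply, h1]
  rfl

/-- A finitely consistent system in a product of finite dimensional spaces has a solution. -/
theorem exists_solution [∀ i, FiniteDimensional k (V i)] {J : Type*}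
    (a : J → Π₀ i, Module.Dual k (V i)) (c : J → k)
    (h : ∀ t : Finset J, ∃ e : ∀ i, V i, ∀ j ∈ t, pair V e (a j) = c j) :
    ∃ e : ∀ i, V i, ∀ j, pair V e (a j) = c j := by
  classical
  let L : (J →₀ k) →ₗ[k] (Π₀ i, Module.Dual k (V i)) := Finsupp.linearCombination k a
  let C : (J →₀ k) →ₗ[k] k := Finsupp.linearCombination k c
  have hker : LinearMap.ker L ≤ LinearMap.ker C := fun l hl => by
    obtain ⟨e, he⟩ := h l.support
    have h0 : pair V e (L l) = 0 := by rw [LinearMap.mem_ker.1 hl, map_zero]
    rw [LinearMap.mem_ker]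
    simp only [L, C, Finsupp.linearCombination_apply, Finsupp.sum, map_sum, map_smul] at h0 ⊢
    rw [← h0]
    exact Finset.sum_congr rfl fun j hj => by rw [he j hj]
  obtain ⟨F, hF⟩ := exists_comp_eq L C hker
  refine ⟨fun i => (Module.evalEquiv k (V i)).symm (F ∘ₗ (DFinsupp.lsingle (R := k) (M := fun i => Module.Dual k (V i)) i)), fun j => ?_⟩
  have hpair : pair V (fun i => (Module.evalEquiv k (V i)).symm (F ∘ₗ (DFinsupp.lsingle (R := k) (M := fun i => Module.Dual k (V i)) i))) = F := by
    refine DFinsupp.lhom_ext fun i ξ => ?_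
    rw [pair_single]
    exact Module.apply_evalEquiv_symm_apply (R := k) (M := V i) ξ _
  rw [hpair, show a j = L (Finsupp.single j 1) by simp [L], hF]
  simp [C]

end BrownFinLib
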